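import Mathlib
import Cfsg.Agent.Lib.Fitting.Basic

/-!
Sylow numbers: multiplicativity over a normal subgroup.
-/

namespace CfsgLib.SylowNumber

open scoped Pointwise

set_option linter.style.haveILetI false

variable {G : Type*} [Group G] {p : ℕ} [Fact p.Prime]

/-- The number of Sylow subgroups is invariant under isomorphisms. -/
theorem card_sylow_congr [Finite G] {G' : Type*} [Group G'] (e : G ≃* G') :
    Nat.card (Sylow p G) = Nat.card (Sylow p G') := by
  refine Nat.card_congr (Equiv.ofBijective (Sylow.mapSurjective (f := e.toMonoidHom) e.surjective)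
    ⟨fun P Q h => ?_, Sylow.mapSurjective_surjective e.surjective p⟩)
  exact Sylow.ext (Subgroup.map_injective (f := e.toMonoidHom) e.injective
    (congrArg Sylow.toSubgroup h))

/-- A group with a normal Sylow subgroup has exactly one. -/
theorem card_sylow_eq_one [Finite G] (P : Sylow p G) [h : (P : Subgroup G).Normal] :
    Nat.card (Sylow p G) = 1 := by
  haveI : (↑P : Subgroup G).Normal := h
  haveI := Sylow.unique_of_normal P (by exact h)
  exact Nat.card_unique

/-- The Sylow subgroups inside an overgroup `M` of one of them. -/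
theorem card_sylow_le_eq [Finite G] {P : Sylow p G} {M : Subgroup G} (hP : ↑P ≤ M) :
    Nat.card {Q : Sylow p G // ↑Q ≤ M} = Nat.card (Sylow p M) := by
  refine Nat.card_congr (Equiv.ofBijective (fun Q => Q.1.subtype Q.2)
    ⟨fun Q R h => Subtype.ext (Sylow.subtype_injective h), fun R => ?_⟩)
  obtain ⟨m, rfl⟩ := MulAction.exists_smul_eq M (P.subtype hP) R
  exact ⟨⟨m • P, Sylow.smul_le hP m⟩, (Sylow.smul_subtype hP m).symm⟩

/-- If the fibres of a map on Sylow subgroups are cut out by a conjugation-equivariant family of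
overgroups, then the Sylow number is the product of the size of the image and a Sylow number. -/
theorem card_eq_mul_of_fibre [Finite G] {X : Type*} (f : Sylow p G → X) (hf : Function.Surjective f)
    (F : Sylow p G → Subgroup G) (hF : ∀ Q : Sylow p G, ↑Q ≤ F Q)
    (hconj : ∀ (g : G) (Q : Sylow p G), MulAut.conj g • F Q = F (g • Q))
    (hrel : ∀ Q Q' : Sylow p G, f Q = f Q' ↔ ↑Q ≤ F Q') (P : Sylow p G) :
    Nat.card (Sylow p G) = Nat.card X * Nat.card (Sylow p (F P)) := by
  haveI : Finite X := Finite.of_surjective f hf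
  have key : ∀ x, Nat.card {Q // f Q = x} = Nat.card (Sylow p (F P)) := by
    intro x
    obtain ⟨R, rfl⟩ := hf x
    obtain ⟨g, rfl⟩ := MulAction.exists_smul_eq G P R
    rw [← card_sylow_le_eq (hF P)]
    refine (Nat.card_congr ((MulAction.toPerm g).subtypeEquiv fun Q => ?_)).symm
    rw [hrel, MulAction.toPerm_apply, Sylow.coe_subgroup_smul, ← hconj,
      Subgroup.pointwise_smul_le_pointwise_smul_iff]
  rw [← Nat.card_prod]
  exact Nat.card_congr ((Equiv.sigmaFiberEquiv f).symm.trans ((Equiv.sigmaCongrRight fun x =>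
    (Finite.card_eq.mp (key x)).some).trans (Equiv.sigmaEquivProd X _)))

/-- `n_p(G) = n_p(G ⧸ N) * n_p(P N)`. -/
theorem card_sylow_eq_quotient_mul [Finite G] (N : Subgroup G) [N.Normal] (P : Sylow p G) :
    Nat.card (Sylow p G) =
      Nat.card (Sylow p (G ⧸ N)) * Nat.card (Sylow p ((P : Subgroup G) ⊔ N : Subgroup G)) := by
  refine card_eq_mul_of_fibre (Sylow.mapSurjective (QuotientGroup.mk'_surjective N))
    (Sylow.mapSurjective_surjective _ p) (fun Q => (Q : Subgroup G) ⊔ N) (fun Q => le_sup_left)
    (fun g Q => ?_) (fun Q Q' => ?_) P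
  · rw [Subgroup.smul_sup, Subgroup.Normal.conj_smul_eq_self g N, Sylow.coe_subgroup_smul]
  · have hker : (QuotientGroup.mk' N).ker = N := QuotientGroup.ker_mk' N
    constructor
    · intro h
      have h' := congrArg Sylow.toSubgroup h
      rw [Sylow.coe_mapSurjective, Sylow.coe_mapSurjective] at h'
      have := Subgroup.map_le_iff_le_comap.mp h'.le
      rwa [Subgroup.comap_map_eq, hker] at this
    · intro h
      apply Sylow.ext
      rw [Sylow.coe_mapSurjective, Sylow.coe_mapSurjective]
      have h1 : (Q : Subgroup G).map (QuotientGroup.mk' N) ≤ (Q' : Subgroup G).map (QuotientGroup.mk' N) := by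
        rw [Subgroup.map_le_iff_le_comap, Subgroup.comap_map_eq, hker]
        exact h
      exact ((Sylow.mapSurjective (QuotientGroup.mk'_surjective N) Q).is_maximal'
        ((Sylow.mapSurjective (QuotientGroup.mk'_surjective N) Q').2) h1).symm

/-- `n_p` of the quotient divides `n_p` of the group. -/
theorem card_sylow_quotient_dvd [Finite G] (N : Subgroup G) [N.Normal] :
    Nat.card (Sylow p (G ⧸ N)) ∣ Nat.card (Sylow p G) :=
  Dvd.intro _ (card_sylow_eq_quotient_mul N (default : Sylow p G)).symm

/-- A normal subgroup normalising every Sylow subgroup does not change the Sylow number. -/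
theorem card_sylow_quotient_of_le_normalizer [Finite G] (N : Subgroup G) [N.Normal] (P : Sylow p G)
    (hN : N ≤ Subgroup.normalizer (P : Set G)) :
    Nat.card (Sylow p (G ⧸ N)) = Nat.card (Sylow p G) := by
  haveI : ((P.subtype (le_sup_left : (P : Subgroup G) ≤ ↑P ⊔ N) :
      Sylow p (↑P ⊔ N : Subgroup G)) : Subgroup (↑P ⊔ N : Subgroup G)).Normal := by
    rw [Sylow.coe_subtype]
    exact Subgroup.normal_subgroupOf_of_le_normalizer (sup_le Subgroup.le_normalizer hN)
  rw [card_sylow_eq_quotient_mul N P, card_sylow_eq_one (P.subtype le_sup_left), mul_one]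

/-- Dividing by a normal `p`-subgroup does not change the Sylow number. -/
theorem card_sylow_quotient_of_isPGroup [Finite G] (N : Subgroup G) [N.Normal] (hN : IsPGroup p N) :
    Nat.card (Sylow p (G ⧸ N)) = Nat.card (Sylow p G) := by
  let P : Sylow p G := default
  refine card_sylow_quotient_of_le_normalizer N P (le_trans ?_ Subgroup.le_normalizer)
  rw [← sup_eq_left]
  exact P.is_maximal' (P.2.to_sup_of_normal_right hN) le_sup_left

/-- The trace of a Sylow subgroup on a normal subgroup. -/
noncomputable def infSylow [Finite G] (K : Subgroup G) [K.Normal] (Q : Sylow p G) : Sylow p K :=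
  (Q.2.comap_of_injective K.subtype K.subtype_injective).toSylow fun h =>
    Q.not_dvd_index (h.trans (CfsgLib.Fitting.relIndex_dvd_index_of_normal_right (Q : Subgroup G) K))

theorem coe_infSylow [Finite G] (K : Subgroup G) [K.Normal] (Q : Sylow p G) :
    (infSylow K Q : Subgroup K) = (Q : Subgroup G).subgroupOf K := rfl

/-- Every Sylow subgroup of a normal subgroup is the trace of one of the whole group. -/
theorem infSylow_surjective [Finite G] (K : Subgroup G) [K.Normal] :
    Function.Surjective (infSylow (p := p) K) := by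
  intro R
  obtain ⟨Q, hQ⟩ := (R.2.map K.subtype).exists_le_sylow
  refine ⟨Q, Sylow.ext (R.is_maximal' (infSylow K Q).2 ?_)⟩
  rw [coe_infSylow]
  intro x hx
  exact hQ (Subgroup.mem_map_of_mem _ hx)

/-- `n_p(G) = n_p(K) * n_p(N_G(P ⊓ K))`. -/
theorem card_sylow_eq_normal_mul [Finite G] (K : Subgroup G) [K.Normal] (P : Sylow p G) :
    Nat.card (Sylow p G) = Nat.card (Sylow p K) *
      Nat.card (Sylow p (Subgroup.normalizer (((P : Subgroup G) ⊓ K : Subgroup G) : Set G))) := by
  refine card_eq_mul_of_fibre (infSylow K) (infSylow_surjective K)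
    (fun Q => Subgroup.normalizer (((Q : Subgroup G) ⊓ K : Subgroup G) : Set G))
    (fun Q => ?_) (fun g Q => ?_) (fun Q Q' => ?_) P
  · exact (le_inf Subgroup.le_normalizer (by rw [Subgroup.normalizer_eq_top]; exact le_top)).trans
      Subgroup.inf_normalizer_le_normalizer_inf
  · ext x
    rw [Subgroup.mem_pointwise_smul_iff_inv_smul_mem]
    simp only [Subgroup.mem_normalizer_iff]
    have hmem : ∀ y : G, y ∈ (↑(g • Q) : Subgroup G) ⊓ K ↔ g⁻¹ * y * g ∈ (Q : Subgroup G) ⊓ K := by
      intro y
      rw [Sylow.coe_subgroup_smul]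
      conv_lhs => rw [← Subgroup.Normal.conj_smul_eq_self g K, ← Subgroup.smul_inf,
        Subgroup.mem_pointwise_smul_iff_inv_smul_mem]
      simp [MulAut.smul_def, MulAut.conj_inv_apply]
    simp only [MulAut.smul_def, MulAut.conj_inv_apply]
    constructor
    · intro h y
      rw [hmem, hmem, h (g⁻¹ * y * g)]
      group
    · intro h y
      have := h (g * y * g⁻¹)
      rw [hmem, hmem] at this
      convert this using 2 <;> group
  · constructor
    · intro h
      have h' : (Q : Subgroup G) ⊓ K = (Q' : Subgroup G) ⊓ K :=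
        Subgroup.subgroupOf_inj.mp (congrArg Sylow.toSubgroup h) |> fun e => by simpa using e
      rw [← h']
      exact (le_inf Subgroup.le_normalizer (by rw [Subgroup.normalizer_eq_top]; exact le_top)).trans
        Subgroup.inf_normalizer_le_normalizer_inf
    · intro h
      have hsup : IsPGroup p ((Q : Subgroup G) ⊔ ((Q' : Subgroup G) ⊓ K) : Subgroup G) :=
        Q.2.to_sup_of_normal_right' (Q'.2.to_le inf_le_left) h
      have hle : (Q' : Subgroup G) ⊓ K ≤ (Q : Subgroup G) :=
        sup_eq_left.mp (Q.is_maximal' hsup le_sup_left)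
      apply Sylow.ext
      refine (infSylow K Q').is_maximal' (infSylow K Q).2 ?_
      intro x hx
      exact hle ⟨hx, x.2⟩

/-- A subgroup of index prime to `p` that is normal has the same Sylow number. -/
theorem card_sylow_eq_of_not_dvd_index [Finite G] (H : Subgroup G) [H.Normal] (hp : ¬ p ∣ H.index) :
    Nat.card (Sylow p H) = Nat.card (Sylow p G) := by
  refine Nat.card_congr (Equiv.ofBijective (infSylow H) ⟨fun Q Q' h => ?_, infSylow_surjective H⟩).symm
  have hQ : ∀ Q : Sylow p G, (Q : Subgroup G) ≤ H := fun Q => by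
    rw [← Subgroup.relIndex_eq_one]
    have h1 : H.relIndex (Q : Subgroup G) ∣ Nat.card (Q : Subgroup G) :=
      Subgroup.index_dvd_card (H.subgroupOf (Q : Subgroup G))
    obtain ⟨n, hn⟩ := IsPGroup.iff_card.mp Q.2
    rw [hn] at h1
    have h2 := Subgroup.relIndex_dvd_index_of_normal H (Q : Subgroup G)
    exact Nat.eq_one_of_dvd_coprimes
      (((Fact.out : p.Prime).coprime_iff_not_dvd.mpr hp).pow_left n) h1 h2
  have h' := congrArg (fun R : Sylow p H => (R : Subgroup H).map H.subtype) h
  simp only [coe_infSylow, Subgroup.subgroupOf_map_subtype, inf_eq_left.mpr (hQ _)] at h'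
  exact Sylow.ext h'

/-- A `p`-group has exactly one Sylow `p`-subgroup. -/
theorem card_sylow_eq_one_of_isPGroup [Finite G] (hG : IsPGroup p G) :
    Nat.card (Sylow p G) = 1 := by
  let P : Sylow p G := default
  have htop : (P : Subgroup G) = ⊤ :=
    (P.is_maximal' (hG.to_subgroup ⊤) le_top).symm
  haveI : (P : Subgroup G).Normal := by rw [htop]; infer_instance
  exact card_sylow_eq_one P

end CfsgLib.SylowNumber
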