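import Mathlib
import Cfsg.Agent.Lib.SylowNumber.Basic

/-!
Sylow numbers of a `p'`-group extended by a `p`-group (P. Hall).
-/

namespace CfsgLib.SylowNumber

open scoped Pointwise

set_option linter.style.haveILetI false

variable {G : Type*} [Group G] [Finite G] {p : ℕ} [Fact p.Prime]

/-- A `p`-group normalising a subgroup `L` of order prime to `p` normalises a Sylow `r`-subgroup
of `L`. -/
theorem exists_invariant_sylow {r : ℕ} [Fact r.Prime] {P L : Subgroup G} (hP : IsPGroup p P)
    (hPL : P ≤ Subgroup.normalizer (L : Set G)) (hL : ¬ p ∣ Nat.card L) :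
    ∃ S : Sylow r L, P ≤ Subgroup.normalizer (((S : Subgroup L).map L.subtype : Subgroup G) : Set G) := by
  letI : MulDistribMulAction P L := MulDistribMulAction.compHom L (Subgroup.inclusion hPL)
  obtain ⟨S, hS⟩ := hP.nonempty_fixed_point_of_prime_not_dvd_card (Sylow r L) fun h => by
    obtain ⟨S⟩ : Nonempty (Sylow r L) := inferInstance
    exact hL ((h.trans S.card_dvd_index).trans (Subgroup.index_dvd_card _))
  refine ⟨S, Subgroup.le_normalizer_iff.mpr fun x hx k hk => ?_⟩
  obtain ⟨l, hl, rfl⟩ := hk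
  have h1 : (⟨x, hx⟩ : P) • l ∈ (⟨x, hx⟩ : P) • (S : Subgroup L) :=
    Subgroup.smul_mem_pointwise_smul l _ _ hl
  rw [← Sylow.pointwise_smul_def, hS ⟨x, hx⟩] at h1
  exact ⟨_, h1, rfl⟩

/-- An `r`-subgroup `R ≤ N` that is Sylow in `N ⊓ normalizer R` is Sylow in `N`. -/
theorem card_eq_of_sylow_normalizer {r : ℕ} [Fact r.Prime] {R N : Subgroup G} (hR : IsPGroup r R)
    (hRN : R ≤ N)
    (h : ∀ S : Subgroup G, IsPGroup r S → R ≤ S → S ≤ N → S ≤ Subgroup.normalizer (R : Set G) → S = R) :
    Nat.card R = r ^ (Nat.card N).factorization r := by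
  obtain ⟨n, hn⟩ := IsPGroup.iff_card.mp hR
  have hdvd : r ^ n ∣ Nat.card N := hn ▸ Subgroup.card_dvd_of_le hRN
  have hle : n ≤ (Nat.card N).factorization r :=
    ((Fact.out : r.Prime).pow_dvd_iff_le_factorization Nat.card_pos.ne').mp hdvd
  rcases hle.lt_or_eq with hlt | heq
  · exfalso
    have hdvd' : r ^ (n + 1) ∣ Nat.card N :=
      ((Fact.out : r.Prime).pow_dvd_iff_le_factorization Nat.card_pos.ne').mpr hlt
    have hcard : Nat.card (R.subgroupOf N) = r ^ n := by
      rw [Nat.card_congr (Subgroup.subgroupOfEquivOfLe hRN).toEquiv, hn]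
    have h2 := Sylow.prime_pow_dvd_card_normalizer hdvd' hcard
    obtain ⟨K, hK, hRK⟩ := Sylow.exists_subgroup_card_pow_prime_le r h2
      ((R.subgroupOf N).subgroupOf (Subgroup.normalizer (R.subgroupOf N : Set N)))
      (by rw [Nat.card_congr (Subgroup.subgroupOfEquivOfLe Subgroup.le_normalizer).toEquiv, hcard])
      (Nat.le_succ n)
    set S : Subgroup G := (K.map (Subgroup.subtype _)).map N.subtype with hS
    have hScard : Nat.card S = r ^ (n + 1) := by
      rw [hS, Subgroup.card_map_of_injective N.subtype_injective,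
        Subgroup.card_map_of_injective (Subgroup.subtype_injective _), hK]
    have hRS : R ≤ S := by
      intro x hx
      exact ⟨⟨x, hRN hx⟩, ⟨⟨⟨x, hRN hx⟩, Subgroup.le_normalizer (Subgroup.mem_subgroupOf.mpr hx)⟩,
        hRK (Subgroup.mem_subgroupOf.mpr (Subgroup.mem_subgroupOf.mpr hx)), rfl⟩, rfl⟩
    have hSN : S ≤ N := Subgroup.map_subtype_le _
    have hSR : S ≤ Subgroup.normalizer (R : Set G) := by
      rintro _ ⟨y, ⟨k, hk, rfl⟩, rfl⟩
      exact (SetLike.ext_iff.mp (Subgroup.subgroupOf_normalizer_eq hRN) k.1).mpr k.2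
    have := h S (IsPGroup.of_card hScard) hRS hSN hSR
    rw [this, hn] at hScard
    exact absurd (Nat.pow_right_injective (Fact.out : r.Prime).two_le hScard) (by omega)
  · rw [hn, heq]

/-- If `P` is a `p`-group normalising the subgroup `N` of order prime to `p`, then for every prime
`r` the `r`-part of `[N : C_N(P)]` is congruent to `1` modulo `p`. -/
theorem rpart_index_centralizer_mod {r : ℕ} [Fact r.Prime] {P N : Subgroup G} (hP : IsPGroup p P)
    (hPN : P ≤ Subgroup.normalizer (N : Set G)) (hN : ¬ p ∣ Nat.card N) :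
    r ^ ((Nat.card N).factorization r -
      (Nat.card (N ⊓ Subgroup.centralizer (P : Set G) : Subgroup G)).factorization r) % p = 1 := by
  set C : Subgroup G := N ⊓ Subgroup.centralizer (P : Set G) with hC
  obtain ⟨C₀⟩ : Nonempty (Sylow r C) := inferInstance
  set C₁ : Subgroup G := (C₀ : Subgroup C).map C.subtype with hC₁
  have hC₁C : C₁ ≤ C := Subgroup.map_subtype_le _
  let T : Set (Subgroup G) :=
    {R | C₁ ≤ R ∧ R ≤ N ∧ IsPGroup r R ∧ P ≤ Subgroup.normalizer (R : Set G)}
  have hT : T.Nonempty := by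
    refine ⟨C₁, le_rfl, hC₁C.trans inf_le_left, C₀.2.map _, ?_⟩
    refine Subgroup.le_normalizer_iff.mpr fun x hx k hk => ?_
    have := Subgroup.mem_centralizer_iff.mp (hC₁C hk).2 x hx
    rw [this, mul_inv_cancel_right]
    exact hk
  obtain ⟨R, hRmax⟩ := T.toFinite.exists_maximal hT
  obtain ⟨⟨hCR, hRN, hRr, hPR⟩, hmax⟩ := hRmax
  -- `R` is a Sylow subgroup of `N`
  have hRcard : Nat.card R = r ^ (Nat.card N).factorization r := by
    refine card_eq_of_sylow_normalizer hRr hRN fun S hS hRS hSN hSR => ?_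
    set L : Subgroup G := N ⊓ Subgroup.normalizer (R : Set G) with hL
    have hPL : P ≤ Subgroup.normalizer (L : Set G) :=
      (le_inf hPN (hPR.trans Subgroup.le_normalizer)).trans Subgroup.inf_normalizer_le_normalizer_inf
    have hLp : ¬ p ∣ Nat.card L := fun h => hN (h.trans (Subgroup.card_dvd_of_le inf_le_left))
    obtain ⟨S₀, hS₀⟩ := exists_invariant_sylow (r := r) hP hPL hLp
    set S₁ : Subgroup G := (S₀ : Subgroup L).map L.subtype with hS₁
    have hRL : R ≤ L := le_inf hRN Subgroup.le_normalizer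
    haveI : (R.subgroupOf L).Normal := Subgroup.normal_subgroupOf_of_le_normalizer inf_le_right
    have hle : R.subgroupOf L ≤ (S₀ : Subgroup L) := by
      have := S₀.is_maximal' (S₀.2.to_sup_of_normal_right
        (show IsPGroup r (R.subgroupOf L) from hRr.comap_of_injective L.subtype L.subtype_injective)) le_sup_left
      exact le_sup_right.trans this.le
    have hRS₁ : R ≤ S₁ := fun x hx => ⟨⟨x, hRL hx⟩, hle (Subgroup.mem_subgroupOf.mpr hx), rfl⟩
    have hS₁R : S₁ ≤ R :=
      hmax ⟨hCR.trans hRS₁, (Subgroup.map_subtype_le _).trans inf_le_left, S₀.2.map _, hS₀⟩ hRS₁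
    refine le_antisymm ?_ hRS
    have hSL : S ≤ L := le_inf hSN hSR
    have hsub : (S₀ : Subgroup L) ≤ S.subgroupOf L := fun x hx =>
      Subgroup.mem_subgroupOf.mpr (hRS (hS₁R ⟨x, hx, rfl⟩))
    have := S₀.is_maximal' (hS.comap_of_injective L.subtype L.subtype_injective) hsub
    intro x hx
    exact hS₁R ⟨⟨x, hSL hx⟩, this.le (Subgroup.mem_subgroupOf.mpr hx), rfl⟩
  -- the fixed points of `P` on `R`
  letI : MulDistribMulAction P R := MulDistribMulAction.compHom R (Subgroup.inclusion hPR)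
  have hfix : Nat.card (MulAction.fixedPoints P R) = Nat.card C₁ := by
    refine Nat.card_congr (Equiv.ofBijective (fun x => ⟨(x.1 : G), ?_⟩) ⟨fun x y h => ?_, fun y => ?_⟩)
    · have hxC : (x.1 : G) ∈ C := by
        refine ⟨hRN x.1.2, Subgroup.mem_centralizer_iff.mpr fun g hg => ?_⟩
        have h1 : g * (x.1 : G) * g⁻¹ = x.1 := congrArg Subtype.val (x.2 ⟨g, hg⟩)
        exact mul_inv_eq_iff_eq_mul.mp h1
      have hle : (C₀ : Subgroup C) ≤ R.subgroupOf C := fun z hz =>
        Subgroup.mem_subgroupOf.mpr (hCR ⟨z, hz, rfl⟩)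
      have := C₀.is_maximal' (hRr.comap_of_injective C.subtype C.subtype_injective) hle
      exact ⟨⟨x.1, hxC⟩, this.le (Subgroup.mem_subgroupOf.mpr x.1.2), rfl⟩
    · exact Subtype.ext (Subtype.ext (congrArg (fun z : C₁ => (z : G)) h))
    · refine ⟨⟨⟨y, hCR y.2⟩, fun g => Subtype.ext ?_⟩, rfl⟩
      show (g : G) * (y : G) * (g : G)⁻¹ = y
      rw [Subgroup.mem_centralizer_iff.mp (hC₁C y.2).2 g g.2, mul_inv_cancel_right]
  have hC₁card : Nat.card C₁ = r ^ (Nat.card C).factorization r := by
    rw [hC₁, Subgroup.card_map_of_injective C.subtype_injective, Sylow.card_eq_multiplicity]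
  have hmod := hP.card_modEq_card_fixedPoints R
  rw [hfix, hC₁card, hRcard] at hmod
  set a := (Nat.card N).factorization r
  set b := (Nat.card C).factorization r
  have hba : b ≤ a :=
    (Nat.factorization_le_iff_dvd Nat.card_pos.ne' Nat.card_pos.ne').mpr
      (Subgroup.card_dvd_of_le inf_le_left) r
  have hcop : Nat.gcd p (r ^ b) = 1 :=
    (Fact.out : p.Prime).coprime_iff_not_dvd.mpr fun h => hN (h.trans
      (((Fact.out : r.Prime).pow_dvd_iff_le_factorization Nat.card_pos.ne').mpr hba))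
  have h1 : r ^ b * r ^ (a - b) ≡ r ^ b * 1 [MOD p] := by
    rwa [← pow_add, Nat.add_sub_cancel' hba, mul_one]
  have h2 : r ^ (a - b) ≡ 1 [MOD p] := Nat.ModEq.cancel_left_of_coprime hcop h1
  rw [Nat.ModEq, Nat.one_mod_eq_one.mpr (Fact.out : p.Prime).ne_one] at h2
  exact h2

/-- If `G = P N` with `N` normal of order prime to `p`, every prime power part of the Sylow number
is congruent to `1` modulo `p`. -/
theorem rpart_card_sylow_mod (P : Sylow p G) (N : Subgroup G) [N.Normal] (hN : ¬ p ∣ Nat.card N)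
    (htop : (P : Subgroup G) ⊔ N = ⊤) (r : ℕ) (hr : r.Prime) :
    r ^ (Nat.card (Sylow p G)).factorization r % p = 1 := by
  haveI := Fact.mk hr
  set C : Subgroup G := N ⊓ Subgroup.centralizer ((P : Subgroup G) : Set G) with hC
  have hCnorm : N ⊓ Subgroup.normalizer ((P : Subgroup G) : Set G) = C := by
    refine le_antisymm (le_inf inf_le_left ?_) (inf_le_inf le_rfl (Subgroup.centralizer_le_normalizer _))
    rintro c ⟨hcN, hcP⟩
    refine Subgroup.mem_centralizer_iff.mpr fun x hx => ?_
    have h1 : x * c * x⁻¹ * c⁻¹ ∈ (P : Subgroup G) := by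
      have := (Subgroup.mem_normalizer_iff.mp hcP x⁻¹).mp ((P : Subgroup G).inv_mem hx)
      simpa [mul_assoc] using (P : Subgroup G).mul_mem hx this
    have h2 : x * c * x⁻¹ * c⁻¹ ∈ N :=
      N.mul_mem (Subgroup.Normal.conj_mem inferInstance c hcN x) (N.inv_mem hcN)
    have h3 : orderOf (x * c * x⁻¹ * c⁻¹) = 1 := by
      obtain ⟨k, hk⟩ := IsPGroup.iff_card.mp P.2
      refine Nat.eq_one_of_dvd_coprimes
        (((Fact.out : p.Prime).coprime_iff_not_dvd.mpr hN).pow_left k)
        (hk ▸ Subgroup.orderOf_dvd_natCard _ h1) (Subgroup.orderOf_dvd_natCard _ h2)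
    rw [orderOf_eq_one_iff, mul_inv_eq_one, mul_inv_eq_iff_eq_mul] at h3
    exact h3
  have hindex : Nat.card (Sylow p G) * Nat.card C = Nat.card N := by
    rw [P.card_eq_index_normalizer, ← P.coe_coe, ← hCnorm, inf_comm]
    set M := Subgroup.normalizer ((P : Subgroup G) : Set G)
    have hsup : M ⊔ N = ⊤ := top_le_iff.mp (htop ▸ sup_le_sup_right Subgroup.le_normalizer N)
    have e2 := Subgroup.relIndex_sup_right (H := M) (K := N)
    rw [hsup, Subgroup.relIndex_top_right] at e2
    have e := Subgroup.card_mul_index M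
    have e4 := Subgroup.card_mul_index N
    have e5 := Subgroup.card_mul_index ((M ⊓ N).subgroupOf M)
    rw [Nat.card_congr (Subgroup.subgroupOfEquivOfLe (inf_le_left : M ⊓ N ≤ M)).toEquiv] at e5
    change Nat.card (M ⊓ N : Subgroup G) * (M ⊓ N).relIndex M = Nat.card M at e5
    rw [Subgroup.inf_relIndex_left, ← e2] at e5
    rw [← e5, ← e4] at e
    have hi : 0 < N.index := Nat.pos_of_ne_zero Subgroup.index_ne_zero_of_finite
    apply Nat.eq_of_mul_eq_mul_right hi
    linarith
  have h := rpart_index_centralizer_mod (r := r) P.2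
    (le_top.trans (Subgroup.normalizer_eq_top (H := N)).ge) hN
  rw [← hindex, Nat.factorization_mul Nat.card_pos.ne' Nat.card_pos.ne', Finsupp.add_apply,
    Nat.add_sub_cancel] at h
  exact h

end CfsgLib.SylowNumber
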