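import Cfsg.Agent.Lib.Perm.DegreePrimeSuccMain
import Cfsg.Agent.Lib.Zassenhaus.SimpleEven
import Cfsg.Agent.Lib.SL2.PSL
import Cfsg.Agent.Lib.SylowNumber.Basic

/-!
The transitive groups of degree `18` and order `18 · 17 · d`, `d < 17`: two isomorphism types, and
their numbers of Sylow `2`- and `3`-subgroups.
-/

set_option autoImplicit false
set_option linter.style.haveILetI false

open MulAction Matrix

namespace CfsgLib.SylowNumber.Eighteen

/-- The image of an element of order `9` of the projective special linear group. -/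
theorem exists_orderOf_pgl :
    ∃ y : Matrix.ProjGenLinGroup (Fin 2) (ZMod 17), orderOf y = 9 := by
  haveI : Fact (Nat.Prime 17) := ⟨by norm_num⟩
  obtain ⟨x, hx⟩ : (9 : ℕ) ∈ Set.range (orderOf : ProjectiveSpecialLinearGroup (Fin 2) (ZMod 17) → ℕ) := by
    rw [SL2.spectrum_PSL 17 (by rw [Nat.card_zmod]; norm_num), Nat.card_zmod]
    exact Or.inr (Or.inr (by norm_num))
  obtain ⟨g, rfl⟩ := SL2.proj_surjective x
  set y := Matrix.ProjGenLinGroup.mk (Matrix.SpecialLinearGroup.toGL g : GL (Fin 2) (ZMod 17)) with hy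
  have hd : orderOf (SL2.proj g) ∣ orderOf y := by
    refine orderOf_dvd_of_pow_eq_one ?_
    have h := pow_orderOf_eq_one y
    rw [hy, ← map_pow, ← map_pow, Matrix.ProjGenLinGroup.mk_eq_one, Subgroup.mem_center_iff] at h
    rw [← map_pow, SL2.proj_eq_one_iff, Subgroup.mem_center_iff]
    intro k
    exact Matrix.SpecialLinearGroup.toGL_injective (by rw [map_mul, map_mul]; exact h _)
  rw [hx] at hd
  haveI : Finite (Matrix.ProjGenLinGroup (Fin 2) (ZMod 17)) :=
    Finite.of_surjective _ Matrix.ProjGenLinGroup.mk_surjective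
  refine ⟨y ^ (orderOf y / 9), ?_⟩
  exact orderOf_pow_orderOf_div (orderOf_pos y).ne' hd

universe u

variable {α : Type u} [Fintype α] [DecidableEq α] {X : Subgroup (Equiv.Perm α)} {d : ℕ}

/-- What the classification in degree `p + 1` gives for `p = 17`. -/
theorem cases (S : DegreePrimeSucc.Setting X 17 d) :
    (d = 8 ∧ Nonempty (X ≃* ProjectiveSpecialLinearGroup (Fin 2) (ZMod 17))) ∨
      (d = 16 ∧ Nonempty (X ≃* Matrix.ProjGenLinGroup (Fin 2) (ZMod 17))) := by
  rcases DegreePrimeSucc.main S with ⟨h, e⟩ | ⟨h, e⟩ | ⟨q, -, hq, -⟩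
  · exact Or.inr ⟨h, e⟩
  · exact Or.inl ⟨by omega, e⟩
  · exfalso
    rcases lt_or_ge q 5 with h | h
    · interval_cases q <;> norm_num at hq
    · have := Nat.pow_le_pow_right (show 0 < 2 by norm_num) h
      omega

theorem card_cases (S : DegreePrimeSucc.Setting X 17 d) :
    Nat.card X = 2448 ∨ Nat.card X = 4896 := by
  rcases cases S with ⟨h, -⟩ | ⟨h, -⟩ <;> [left; right] <;> rw [S.hcard, h]

theorem exists_orderOf (S : DegreePrimeSucc.Setting X 17 d) : ∃ r : X, orderOf r = 9 := by
  haveI : Fact (Nat.Prime 17) := ⟨by norm_num⟩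
  rcases cases S with ⟨-, ⟨e⟩⟩ | ⟨-, ⟨e⟩⟩
  · obtain ⟨x, hx⟩ : (9 : ℕ) ∈ Set.range (orderOf : ProjectiveSpecialLinearGroup (Fin 2) (ZMod 17) → ℕ) := by
      rw [SL2.spectrum_PSL 17 (by rw [Nat.card_zmod]; norm_num), Nat.card_zmod]
      exact Or.inr (Or.inr (by norm_num))
    exact ⟨e.symm x, by rw [MulEquiv.orderOf_eq]; exact hx⟩
  · obtain ⟨y, hy⟩ := exists_orderOf_pgl
    exact ⟨e.symm y, by rw [MulEquiv.orderOf_eq]; exact hy⟩

theorem zg (S : DegreePrimeSucc.Setting X 17 d) : Zassenhaus.ZG X α := by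
  refine ⟨fun a b c e hab hce => ?_, fun g a b c hab hbc hac => DegreePrimeSucc.free S hab hbc hac,
    by rw [Nat.card_eq_fintype_card, S.hα]; norm_num⟩
  exact DegreePrimeSucc.two_trans S hab hce

/-- The Sylow `3`-subgroups are self-centralising and have small normalisers. -/
theorem card_sylow_three (S : DegreePrimeSucc.Setting X 17 d) [Fact (Nat.Prime 3)]
    (hdvd : Nat.card (Sylow 3 X) ∣ 136) : Nat.card (Sylow 3 X) = 136 := by
  classical
  have hz := zg S
  haveI := Fintype.ofFinite X
  obtain ⟨r, hr⟩ := exists_orderOf S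
  set R := Subgroup.zpowers r with hR
  have hRc : Nat.card R = 9 := by rw [hR, Nat.card_zpowers, hr]
  have hX := card_cases S
  have hidx : ¬ 3 ∣ R.index := by
    have h := R.card_mul_index
    rw [hRc] at h
    omega
  have hpR : IsPGroup 3 R := IsPGroup.of_card (n := 2) (by rw [hRc]; rfl)
  set P : Sylow 3 X := hpR.toSylow hidx with hP
  have hd16 : d ∣ 16 := DegreePrimeSucc.d_dvd S
  set N := Subgroup.normalizer (R : Set X) with hN
  have hPN : Subgroup.normalizer (P : Set X) = N := by rw [hP, hN]; rfl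
  -- a stabiliser in the normaliser is small
  obtain ⟨x⟩ : Nonempty α := Fintype.card_pos_iff.mp (by rw [S.hα]; norm_num)
  set T : Subgroup X := N ⊓ stabilizer X x with hT
  have hTc : Nat.card T ≤ 2 := by
    have hsemi : ∀ i : ℤ, r ^ i • x = x → r ^ i = 1 := fun i hi => by
      rw [← orderOf_eq_one_iff]
      have h1 : orderOf (r ^ i) ∣ 9 := by
        rw [← hRc]
        exact Subgroup.orderOf_dvd_natCard R (Subgroup.zpow_mem_zpowers r i)
      have h2 : orderOf (r ^ i) ∣ 17 * d := by
        rw [← DegreePrimeSucc.card_stab S x]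
        exact Subgroup.orderOf_dvd_natCard (stabilizer X x) hi
      have h3 : 17 * d ∣ 17 * 16 := Nat.mul_dvd_mul_left 17 hd16
      exact Nat.eq_one_of_dvd_coprimes (by norm_num) h1 (h2.trans h3)
    let f : T →* MulAut R := (Subgroup.normalizerMonoidHom R).comp
      (T.subtype.codRestrict N fun t => t.2.1)
    have hf : Function.Injective f := by
      rw [injective_iff_map_eq_one]
      intro t ht
      have h := congrArg Subtype.val (DFunLike.congr_fun ht ⟨r, Subgroup.mem_zpowers r⟩)
      have hc : (t : X) * r = r * (t : X) := mul_inv_eq_iff_eq_mul.mp h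
      have htx : (t : X) • x = x := t.2.2
      have h1x : r • x ≠ x := fun e => by
        have h' := hsemi 1 (by rw [zpow_one]; exact e)
        rw [zpow_one] at h'
        rw [h', orderOf_one] at hr
        norm_num at hr
      have h2x : r • r • x ≠ x := fun e => by
        have h' := hsemi 2 (by rw [zpow_two, mul_smul]; exact e)
        have : orderOf r ∣ 2 := orderOf_dvd_of_pow_eq_one (by rw [← zpow_natCast]; exact h')
        rw [hr] at this
        norm_num at this
      refine Subtype.ext (hz.free (t : X) x (r • x) (r • r • x) (Ne.symm h1x)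
        (fun e => h1x (smul_left_cancel r e).symm) (Ne.symm h2x) htx ?_ ?_)
      · rw [← mul_smul, hc, mul_smul, htx]
      · rw [← mul_smul, hc, mul_smul, ← mul_smul (t : X), hc, mul_smul, htx]
    have h1 : Nat.card T ∣ 6 := by
      have h := Subgroup.card_dvd_of_injective f hf
      rwa [IsCyclic.card_mulAut, hRc, show Nat.totient 9 = 6 by decide] at h
    have h2 : Nat.card T ∣ 17 * d := by
      rw [← DegreePrimeSucc.card_stab S x]
      exact Subgroup.card_dvd_of_le inf_le_right
    have h3 := Nat.dvd_gcd h1 (h2.trans (Nat.mul_dvd_mul_left 17 hd16))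
    rw [show Nat.gcd 6 (17 * 16) = 2 by decide] at h3
    exact Nat.le_of_dvd two_pos h3
  have hNc : Nat.card N ≤ 36 := by
    have h := (stabilizer N x).card_mul_index
    rw [MulAction.index_stabilizer] at h
    have h1 : (orbit N x).ncard ≤ 18 := by
      have := Set.ncard_le_ncard (Set.subset_univ (orbit N x))
      rwa [Set.ncard_univ, Nat.card_eq_fintype_card, S.hα] at this
    have h2 : Nat.card (stabilizer N x) = Nat.card T :=
      Nat.card_congr ⟨fun g => ⟨(g : N), (g : N).2, g.2⟩, fun g => ⟨⟨g, g.2.1⟩, g.2.2⟩, fun _ => rfl,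
        fun _ => rfl⟩
    rw [← h, h2]
    calc Nat.card T * (orbit N x).ncard ≤ 2 * 18 := Nat.mul_le_mul hTc h1
      _ = 36 := by norm_num
  have h := Subgroup.card_mul_index N
  rw [← hPN, ← P.card_eq_index_normalizer, hPN] at h
  have hmod := card_sylow_modEq_one 3 X
  set n := Nat.card (Sylow 3 X)
  rw [Nat.ModEq] at hmod
  have hbig : 68 ≤ n := by
    by_contra hlt
    have := Nat.mul_le_mul hNc (show n ≤ 67 by omega)
    omega
  have hle := Nat.le_of_dvd (by norm_num) hdvd
  obtain ⟨k, hk⟩ := hdvd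
  have hk2 : k ≤ 2 := by
    by_contra hk2
    have := Nat.mul_le_mul hbig (show 3 ≤ k by omega)
    omega
  interval_cases k <;> omega

/-- The Sylow `2`-subgroups are self-normalising. -/
theorem card_sylow_two (S : DegreePrimeSucc.Setting X 17 d) [Fact (Nat.Prime 2)] :
    Nat.card (Sylow 2 X) = 153 := by
  classical
  have hz := zg S
  haveI := Fintype.ofFinite X
  obtain ⟨b, hb⟩ := DegreePrimeSucc.exists_other S
  set a := S.a
  have hab : a ≠ b := Ne.symm hb
  set D := DegreePrimeSucc.D S b with hD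
  have hDc : Nat.card D = d := DegreePrimeSucc.card_D S hb
  have hd8 : d = 8 ∨ d = 16 := (cases S).imp (·.1) (·.1)
  obtain ⟨k, hkD, hk⟩ : ∃ k ∈ D, k * k ≠ 1 := by
    obtain ⟨f, hf⟩ := DegreePrimeSucc.exists_embedding S hb
    haveI : Fact (Nat.Prime 17) := ⟨by norm_num⟩
    haveI : IsCyclic (ZMod (Nat.card (Subgroup.zpowers S.u)))ˣ := by
      rw [Nat.card_zpowers, S.hu]
      infer_instance
    haveI : IsCyclic (MulAut (Subgroup.zpowers S.u)) :=
      isCyclic_of_surjective (IsCyclic.mulAutMulEquiv (Subgroup.zpowers S.u)).symm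
        (IsCyclic.mulAutMulEquiv (Subgroup.zpowers S.u)).symm.surjective
    haveI : IsCyclic D := isCyclic_of_injective f hf
    obtain ⟨g, hg⟩ := IsCyclic.exists_ofOrder_eq_natCard (α := D)
    refine ⟨g, g.2, fun e => ?_⟩
    have h2 : orderOf g ∣ 2 := orderOf_dvd_of_pow_eq_one (by rw [pow_two]; exact Subtype.ext e)
    rw [hg, hDc] at h2
    rcases hd8 with h | h <;> rw [h] at h2 <;> norm_num at h2
  let M : Subgroup X :=
    { carrier := {g | (g • a = a ∧ g • b = b) ∨ (g • a = b ∧ g • b = a)}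
      one_mem' := Or.inl ⟨one_smul _ _, one_smul _ _⟩
      mul_mem' := by
        rintro g h (⟨h1, h2⟩ | ⟨h1, h2⟩) (⟨h3, h4⟩ | ⟨h3, h4⟩) <;>
          simp only [Set.mem_ofPred_eq, mul_smul, h3, h4, h1, h2, and_self, true_or, or_true]
      inv_mem' := by
        rintro g (⟨h1, h2⟩ | ⟨h1, h2⟩)
        · exact Or.inl ⟨inv_smul_eq_iff.mpr h1.symm, inv_smul_eq_iff.mpr h2.symm⟩
        · exact Or.inr ⟨inv_smul_eq_iff.mpr h2.symm, inv_smul_eq_iff.mpr h1.symm⟩ }
  have hDM : D ≤ M := fun g hg => Or.inl hg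
  obtain ⟨w, hw1, hw2⟩ := hz.trans a b b a hab hab.symm
  have hMc : Nat.card M = 2 * d := by
    have hi : (D.subgroupOf M).index = 2 := by
      refine Subgroup.index_eq_two_iff.mpr ⟨⟨w, Or.inr ⟨hw1, hw2⟩⟩, fun g => ?_⟩
      simp only [Subgroup.mem_subgroupOf, Subgroup.coe_mul]
      obtain ⟨g, hg⟩ := g
      rcases hg with ⟨h1, h2⟩ | ⟨h1, h2⟩
      · refine Or.inr ⟨⟨h1, h2⟩, fun e => hab ?_⟩
        have e1 : (g * w) • a = a := e.1
        rw [mul_smul, hw1, h2] at e1
        exact e1.symm
      · refine Or.inl ⟨⟨?_, ?_⟩, fun e => hab ?_⟩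
        · show (g * w) • a = a
          rw [mul_smul, hw1, h2]
        · show (g * w) • b = b
          rw [mul_smul, hw2, h1]
        · have e1 : g • a = a := e.1
          exact e1.symm.trans h1
    have h := (D.subgroupOf M).card_mul_index
    rw [hi, Nat.card_congr (Subgroup.subgroupOfEquivOfLe hDM).toEquiv, hDc] at h
    omega
  have hidx : M.index = 153 := by
    have h := M.card_mul_index
    rw [hMc, S.hcard] at h
    rcases hd8 with e | e <;> rw [e] at h <;> omega
  have hpM : IsPGroup 2 M := by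
    rcases hd8 with e | e
    · exact IsPGroup.of_card (n := 4) (by rw [hMc, e]; rfl)
    · exact IsPGroup.of_card (n := 5) (by rw [hMc, e]; rfl)
  set P : Sylow 2 X := hpM.toSylow (by rw [hidx]; norm_num) with hP
  have hPM : Subgroup.normalizer (P : Set X) = M := by
    refine le_antisymm (fun g hg => ?_) Subgroup.le_normalizer
    have hg' : g ∈ Subgroup.normalizer (M : Set X) := hg
    have hsq : ∀ m ∈ M, (m * m) • a = a ∧ (m * m) • b = b := by
      rintro m (⟨h1, h2⟩ | ⟨h1, h2⟩) <;> simp only [mul_smul, h1, h2, and_self]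
    obtain ⟨f1, f2⟩ := hsq _ ((Subgroup.mem_normalizer_iff.mp hg' k).mp (hDM hkD))
    set k' := g * k * g⁻¹ * (g * k * g⁻¹) with hk'
    have hk1 : k' ≠ 1 := fun e => hk <| by
      have : k * k = g⁻¹ * k' * g := by rw [hk']; group
      rw [this, e]
      group
    have hfix : ∀ c : α, k • c = c → k' • g • c = g • c := fun c hc => by
      rw [← mul_smul, show k' * g = g * (k * k) by rw [hk']; group, mul_smul, mul_smul, hc, hc]
    have ha' := Zassenhaus.fixed_of_mem hz hab ⟨f1, f2⟩ hk1 (hfix a hkD.1)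
    have hb' := Zassenhaus.fixed_of_mem hz hab ⟨f1, f2⟩ hk1 (hfix b hkD.2)
    rcases ha' with ha' | ha' <;> rcases hb' with hb' | hb'
    · exact absurd (smul_left_cancel g (ha'.trans hb'.symm)) hab
    · exact Or.inl ⟨ha', hb'⟩
    · exact Or.inr ⟨ha', hb'⟩
    · exact absurd (smul_left_cancel g (ha'.trans hb'.symm)) hab
  rw [P.card_eq_index_normalizer, hPM, hidx]

end CfsgLib.SylowNumber.Eighteen
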