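import Cfsg.Agent.Lib.SylowNumber.Basic
import Cfsg.Agent.Lib.Zassenhaus.Basic
import Cfsg.Agent.Lib.Critical.Basic

/-!
Groups with `p + 1` Sylow `p`-subgroups act on them as a group in which only the identity fixes
three points; a normal subgroup normalising all Sylow subgroups of a group with trivial centre is
trivial.
-/

set_option autoImplicit false
set_option linter.style.haveILetI false

open MulAction
open scoped Pointwise

namespace CfsgLib.SylowNumber.SuccPrime

variable {G : Type*} [Group G] [Finite G]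

/-- A normal subgroup normalising every Sylow subgroup is trivial, if the centre is. -/
theorem eq_bot_of_le_normalizers (hZ : Subgroup.center G = ⊥) (K : Subgroup G) [hKn : K.Normal]
    (h : ∀ r : ℕ, r.Prime → ∀ S : Sylow r G, K ≤ Subgroup.normalizer (S : Set G)) : K = ⊥ := by
  by_contra hK
  obtain ⟨r, hr, hrK⟩ := Nat.exists_prime_and_dvd (fun h1 => hK (Subgroup.eq_bot_of_card_eq K h1))
  haveI := Fact.mk hr
  let R : Sylow r G := default
  set M : Subgroup G := (R : Subgroup G) ⊓ K with hM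
  have hMR : M ≤ R := inf_le_left
  have hall : ∀ Q : Sylow r G, M ≤ Q := fun Q => by
    have hsup : IsPGroup r ((Q : Subgroup G) ⊔ M : Subgroup G) := by
      rw [sup_comm]
      exact (R.2.to_le hMR).to_sup_of_normal_right' Q.2 (inf_le_right.trans (h r hr Q))
    exact sup_eq_left.mp (Q.is_maximal' hsup le_sup_left)
  haveI hMn : M.Normal := ⟨fun x hx g => by
    refine Subgroup.mem_inf.mpr ⟨?_, hKn.conj_mem x hx.2 g⟩
    have h1 : x ∈ ((g⁻¹ • R : Sylow r G) : Subgroup G) := hall _ hx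
    rw [Sylow.coe_subgroup_smul, Subgroup.mem_pointwise_smul_iff_inv_smul_mem] at h1
    simpa [MulAut.smul_def] using h1⟩
  have hMne : M ≠ ⊥ := by
    obtain ⟨x, hx⟩ := exists_prime_orderOf_dvd_card' (G := K) r hrK
    have hxo : orderOf (x : G) = r := by rw [Subgroup.orderOf_coe]; exact hx
    have hpg : IsPGroup r (Subgroup.zpowers (x : G)) :=
      IsPGroup.of_card (n := 1) (by rw [Nat.card_zpowers, hxo, pow_one])
    obtain ⟨Q, hQ⟩ := hpg.exists_le_sylow
    obtain ⟨g, rfl⟩ := MulAction.exists_smul_eq G R Q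
    have h1 : (x : G) ∈ ((g • R : Sylow r G) : Subgroup G) := hQ (Subgroup.mem_zpowers _)
    rw [Sylow.coe_subgroup_smul, Subgroup.mem_pointwise_smul_iff_inv_smul_mem] at h1
    intro hbot
    have h2 : g⁻¹ * (x : G) * g ∈ M := Subgroup.mem_inf.mpr
      ⟨by simpa [MulAut.smul_def] using h1, by simpa using hKn.conj_mem _ x.2 g⁻¹⟩
    rw [hbot, Subgroup.mem_bot] at h2
    have hx1 : (x : G) = 1 := by
      rw [show (x : G) = g * (g⁻¹ * (x : G) * g) * g⁻¹ by group, h2]; group
    rw [hx1, orderOf_one] at hxo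
    exact hr.one_lt.ne hxo
  haveI : Group.IsNilpotent (R : Subgroup G) := R.2.isNilpotent
  have hMR' : M.subgroupOf (R : Subgroup G) ≠ ⊥ := by
    rw [Ne, Subgroup.subgroupOf_eq_bot, disjoint_iff, inf_eq_left.mpr hMR]
    exact hMne
  obtain ⟨⟨z, hzM⟩, hz1⟩ := Subgroup.ne_bot_iff_exists_ne_one.mp
    (CfsgLib.Critical.inf_center_ne_bot (Q := (R : Subgroup G)) (M.subgroupOf (R : Subgroup G)) hMR')
  obtain ⟨hzM', hzc⟩ := Subgroup.mem_inf.mp hzM
  set C : Subgroup G := Subgroup.centralizer {(z : G)} with hC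
  have hRC : (R : Subgroup G) ≤ C := fun y hy => by
    rw [hC, Subgroup.mem_centralizer_singleton_iff]
    exact congrArg Subtype.val (Subgroup.mem_center_iff.mp hzc ⟨y, hy⟩)
  have hSC : ∀ s : ℕ, s.Prime → s ≠ r → ∀ S : Sylow s G, (S : Subgroup G) ≤ C := by
    intro s hs hsr S y hy
    haveI := Fact.mk hs
    have hdis : M ⊓ (S : Subgroup G) = ⊥ := (Subgroup.disjoint_of_coprime_natCard <| by
      obtain ⟨n, hn⟩ := IsPGroup.iff_card.mp (R.2.to_le hMR)
      obtain ⟨m, hm⟩ := IsPGroup.iff_card.mp S.2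
      rw [hn, hm]
      exact Nat.Coprime.pow n m ((Nat.coprime_primes hr hs).mpr (Ne.symm hsr))).eq_bot
    have hzK : (z : G) ∈ K := hzM'.2
    have hcomm : (z : G) * y * (z : G)⁻¹ * y⁻¹ ∈ M ⊓ (S : Subgroup G) := by
      refine Subgroup.mem_inf.mpr ⟨?_, ?_⟩
      · rw [show (z : G) * y * (z : G)⁻¹ * y⁻¹ = (z : G) * (y * (z : G)⁻¹ * y⁻¹) by group]
        exact M.mul_mem hzM' (hMn.conj_mem _ (M.inv_mem hzM') y)
      · exact (S : Subgroup G).mul_mem ((Subgroup.mem_normalizer_iff.mp (h s hs S hzK) y).mp hy)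
          ((S : Subgroup G).inv_mem hy)
    rw [hdis, Subgroup.mem_bot, mul_inv_eq_one, mul_inv_eq_iff_eq_mul] at hcomm
    rw [hC, Subgroup.mem_centralizer_singleton_iff]
    exact hcomm.symm
  have hCtop : C = ⊤ := by
    rw [← Subgroup.index_eq_one]
    by_contra hne
    obtain ⟨s, hs, hsd⟩ := Nat.exists_prime_and_dvd hne
    haveI := Fact.mk hs
    by_cases hsr : s = r
    · subst hsr
      exact R.not_dvd_index (hsd.trans (Subgroup.index_dvd_of_le hRC))
    · let S : Sylow s G := default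
      exact S.not_dvd_index (hsd.trans (Subgroup.index_dvd_of_le (hSC s hs hsr S)))
  have hzc' : (z : G) ∈ Subgroup.center G := Subgroup.mem_center_iff.mpr fun g => by
    have hg : g ∈ C := hCtop ▸ Subgroup.mem_top g
    rwa [hC, Subgroup.mem_centralizer_singleton_iff] at hg
  rw [hZ, Subgroup.mem_bot] at hzc'
  exact hz1 (Subtype.ext (Subtype.ext hzc'))

/-- The action on Sylow subgroups, as permutations. -/
abbrev image (G : Type*) [Group G] (p : ℕ) : Subgroup (Equiv.Perm (Sylow p G)) :=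
  (MulAction.toPermHom G (Sylow p G)).range

variable {p : ℕ} [Fact p.Prime]

omit [Finite G] [Fact p.Prime] in
theorem mk_smul (g : G) (Q : Sylow p G) :
    (⟨MulAction.toPermHom G (Sylow p G) g, g, rfl⟩ : image G p) • Q = g • Q := rfl

omit [Finite G] [Fact p.Prime] in
theorem eq_of_forall_smul_eq {P Q : Sylow p G} (h : ∀ x ∈ (P : Subgroup G), x • Q = Q) : Q = P := by
  refine Sylow.ext (P.is_maximal' Q.2 fun x hx => ?_)
  have h' : x ∈ (P : Subgroup G) ⊓ Subgroup.normalizer (Q : Set G) :=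
    ⟨hx, Sylow.smul_eq_iff_mem_normalizer.mp (h x hx)⟩
  rw [IsPGroup.inf_normalizer_sylow P.2 Q] at h'
  exact h'.2

variable (hn : Nat.card (Sylow p G) = p + 1)
include hn

theorem orbit_eq {P Q : Sylow p G} (hQ : Q ≠ P) :
    MulAction.orbit (P : Subgroup G) Q = {R | R ≠ P} ∧
      Nat.card (MulAction.orbit (P : Subgroup G) Q) = p := by
  have hsub : MulAction.orbit (P : Subgroup G) Q ⊆ {R | R ≠ P} := by
    rintro _ ⟨⟨x, hx⟩, rfl⟩ (e : x • Q = P)
    refine hQ (smul_left_cancel x (e.trans ?_))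
    exact (Sylow.smul_eq_iff_mem_normalizer.mpr (Subgroup.le_normalizer hx)).symm
  have hcard : ({R : Sylow p G | R ≠ P} : Set (Sylow p G)).ncard = p := by
    rw [show {R : Sylow p G | R ≠ P} = ({P} : Set (Sylow p G))ᶜ from rfl, Set.ncard_compl,
      Set.ncard_singleton, hn, Nat.add_sub_cancel]
  obtain ⟨k, hk⟩ := P.2.card_orbit Q
  have hle : (MulAction.orbit (P : Subgroup G) Q).ncard ≤ p :=
    (Set.ncard_le_ncard hsub).trans hcard.le
  have hk0 : k ≠ 0 := by
    rintro rfl
    rw [pow_zero, Nat.card_coe_set_eq, Set.ncard_eq_one] at hk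
    obtain ⟨R, hR⟩ := hk
    refine hQ (eq_of_forall_smul_eq fun x hx => ?_)
    have h1 : (⟨x, hx⟩ : (P : Subgroup G)) • Q ∈ MulAction.orbit (P : Subgroup G) Q :=
      MulAction.mem_orbit Q _
    have h2 := MulAction.mem_orbit_self (M := (P : Subgroup G)) Q
    rw [hR, Set.mem_singleton_iff] at h1 h2
    exact h1.trans h2.symm
  have hp := (Fact.out : p.Prime).two_le
  have hge : p ≤ (MulAction.orbit (P : Subgroup G) Q).ncard := by
    rw [← Nat.card_coe_set_eq, hk]
    exact Nat.le_self_pow hk0 p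
  refine ⟨Set.eq_of_subset_of_ncard_le hsub (hcard.le.trans hge), ?_⟩
  rw [Nat.card_coe_set_eq]
  omega

theorem exists_move {P Q Q' : Sylow p G} (hQ : Q ≠ P) (hQ' : Q' ≠ P) :
    ∃ x ∈ (P : Subgroup G), x • Q = Q' := by
  have h : Q' ∈ MulAction.orbit (P : Subgroup G) Q := by rw [(orbit_eq hn hQ).1]; exact hQ'
  obtain ⟨⟨x, hx⟩, e⟩ := h
  exact ⟨x, hx, e⟩

/-- The group of permutations of `p + 1` Sylow subgroups. -/
theorem zg : Zassenhaus.ZG (image G p) (Sylow p G) := by
  refine ⟨fun a b c d hab hcd => ?_, ?_, by rw [hn]; have := (Fact.out : p.Prime).two_le; omega⟩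
  · obtain ⟨g, hg⟩ := MulAction.exists_smul_eq G a c
    have hgb : g • b ≠ c := fun e => hab (smul_left_cancel g (hg.trans e.symm))
    obtain ⟨x, hx, hxe⟩ := exists_move hn hgb hcd.symm
    refine ⟨⟨MulAction.toPermHom G _ (x * g), x * g, rfl⟩, ?_, ?_⟩
    · rw [mk_smul, mul_smul, hg]
      exact Sylow.smul_eq_iff_mem_normalizer.mpr (Subgroup.le_normalizer hx)
    · rw [mk_smul, mul_smul, hxe]
  · rintro ⟨_, g, rfl⟩ P Q R hPQ hQR hPR hgP hgQ hgR
    rw [mk_smul] at hgP hgQ hgR
    obtain ⟨y, hy, hyR⟩ := exists_move hn hPQ.symm hPR.symm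
    set T : Subgroup (P : Subgroup G) := MulAction.stabilizer (P : Subgroup G) Q with hT
    have hTi : T.index = p := by
      rw [hT, MulAction.index_stabilizer, ← Nat.card_coe_set_eq]
      exact (orbit_eq hn hPQ.symm).2
    haveI hTn : T.Normal := by
      refine Subgroup.normal_of_index_eq_minFac_card ?_
      rw [hTi]
      obtain ⟨k, hk⟩ := IsPGroup.iff_card.mp P.2
      have hk0 : k ≠ 0 := by
        rintro rfl
        have h1 := T.index_dvd_card
        rw [hTi, hk, pow_zero] at h1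
        exact (Fact.out : p.Prime).not_dvd_one h1
      rw [hk, Nat.Prime.pow_minFac (Fact.out : p.Prime) hk0]
    have hfix : ∀ t ∈ T, ∀ S : Sylow p G, ((t : (P : Subgroup G)) : G) • S = S := by
      intro t ht S
      rcases eq_or_ne S P with rfl | hS
      · exact Sylow.smul_eq_iff_mem_normalizer.mpr (Subgroup.le_normalizer t.2)
      · obtain ⟨x, hx, rfl⟩ := exists_move hn hPQ.symm hS
        have h2 : (⟨x, hx⟩⁻¹ * t * ⟨x, hx⟩ : (P : Subgroup G)) • Q = Q := by
          have := hTn.conj_mem t ht (⟨x, hx⟩⁻¹)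
          rw [inv_inv] at this
          exact this
        have h3 : x⁻¹ • ((t : G) • (x • Q)) = Q := by
          rw [← mul_smul, ← mul_smul]
          exact h2
        exact inv_smul_eq_iff.mp h3
    have hc : g * y * g⁻¹ ∈ (P : Subgroup G) :=
      (Subgroup.mem_normalizer_iff.mp (Sylow.smul_eq_iff_mem_normalizer.mp hgP) y).mp hy
    have hgQ' : g⁻¹ • Q = Q := inv_smul_eq_iff.mpr hgQ.symm
    have hcy : (⟨y⁻¹ * (g * y * g⁻¹), mul_mem (inv_mem hy) hc⟩ : (P : Subgroup G)) ∈ T := by
      rw [hT, MulAction.mem_stabilizer_iff]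
      show (y⁻¹ * (g * y * g⁻¹)) • Q = Q
      rw [mul_smul, mul_smul, mul_smul, hgQ', hyR, hgR, ← hyR, inv_smul_smul]
    have hgy : ∀ S : Sylow p G, g • y • S = y • g • S := by
      intro S
      have h := hfix _ hcy (g • S)
      change (y⁻¹ * (g * y * g⁻¹)) • (g • S) = g • S at h
      rw [mul_smul, inv_smul_eq_iff, mul_smul, mul_smul, inv_smul_smul] at h
      exact h
    apply Subtype.ext
    refine Equiv.ext fun S => ?_
    show g • S = S
    -- the orbit of `Q` under `y` is everything but `P`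
    let A : Subgroup (P : Subgroup G) := T ⊔ Subgroup.zpowers ⟨y, hy⟩
    have hA : A = ⊤ := by
      rw [← Subgroup.index_eq_one]
      have hd : A.index ∣ p := (Subgroup.index_dvd_of_le (le_sup_left : T ≤ A)).trans hTi.dvd
      refine ((Nat.dvd_prime (Fact.out : p.Prime)).mp hd).resolve_right fun e => ?_
      have hTA : T = A := by
        have h1 := Subgroup.relIndex_mul_index (le_sup_left : T ≤ A)
        rw [hTi, e] at h1
        exact le_antisymm le_sup_left (Subgroup.relIndex_eq_one.mp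
          (Nat.eq_of_mul_eq_mul_right (Fact.out : p.Prime).pos (h1.trans (one_mul p).symm)))
      have : (⟨y, hy⟩ : (P : Subgroup G)) ∈ T := by
        rw [hTA]; exact Subgroup.mem_sup_right (Subgroup.mem_zpowers _)
      exact hQR ((MulAction.mem_stabilizer_iff.mp this).symm.trans hyR)
    rcases eq_or_ne S P with rfl | hS
    · exact hgP
    obtain ⟨x, hx, rfl⟩ := exists_move hn hPQ.symm hS
    let C : Subgroup (P : Subgroup G) := (Subgroup.centralizer {MulAction.toPermHom G (Sylow p G) g}).comap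
      ((MulAction.toPermHom G (Sylow p G)).comp (P : Subgroup G).subtype)
    have hmem : ∀ w : (P : Subgroup G), (∀ S : Sylow p G, g • (w : G) • S = (w : G) • g • S) → w ∈ C := by
      intro w hw
      rw [Subgroup.mem_comap, Subgroup.mem_centralizer_singleton_iff]
      exact Equiv.ext fun S => (hw S).symm
    have hAC : A ≤ C := sup_le (fun t ht => hmem t fun S => by rw [hfix t ht S, hfix t ht (g • S)])
      (Subgroup.zpowers_le.mpr (hmem _ hgy))
    have hw : (⟨x, hx⟩ : (P : Subgroup G)) ∈ C := hAC (by rw [hA]; exact Subgroup.mem_top _)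
    rw [Subgroup.mem_comap, Subgroup.mem_centralizer_singleton_iff] at hw
    have h1 : x • g • Q = g • x • Q := Equiv.Perm.ext_iff.mp hw Q
    rw [← h1, hgQ]

end CfsgLib.SylowNumber.SuccPrime
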