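import Cfsg.Agent.Lib.SylowNumber.EighteenPoints
import Cfsg.Agent.Lib.SylowNumber.SuccPrime
import Cfsg.Agent.Lib.BrauerTuan.Identify
import Cfsg.Agent.Lib.Groups.SelfCentPrime

/-!
A group with trivial centre whose Sylow numbers are `18`, `136` and `153`.
-/

set_option autoImplicit false
set_option linter.style.haveILetI false

open MulAction Matrix

namespace CfsgLib.SylowNumber.Eighteen

/-- Isomorphisms preserve the centre. -/
theorem map_center_eq {A B : Type*} [Group A] [Group B] (e : A ≃* B) :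
    (Subgroup.center A).map (e : A →* B) = Subgroup.center B := by
  ext x
  simp only [Subgroup.mem_map, Subgroup.mem_center_iff]
  refine ⟨?_, fun hx => ⟨e.symm x, fun y => e.injective ?_, e.apply_symm_apply x⟩⟩
  · rintro ⟨a, ha, rfl⟩ y
    obtain ⟨b, rfl⟩ := e.surjective y
    show e b * e a = e a * e b
    rw [← map_mul, ← map_mul, ha]
  · rw [map_mul, map_mul, MulEquiv.apply_symm_apply]; exact hx _

/-- `PGL(2, q)` only depends on `q`. -/
theorem pgl_congr {F K : Type*} [Field F] [Field K] (σ : F ≃+* K) :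
    Nonempty (Matrix.ProjGenLinGroup (Fin 2) F ≃* (GL (Fin 2) K ⧸ Subgroup.center (GL (Fin 2) K))) :=
  let e : GL (Fin 2) F ≃* GL (Fin 2) K := Units.mapEquiv σ.mapMatrix.toMulEquiv
  ⟨QuotientGroup.congr _ _ e (map_center_eq e)⟩

variable {G : Type*} [Group G] [Finite G]

/-- Sylow numbers of a normal subgroup with a normal Sylow `17`-subgroup. -/
theorem false_of_other {r : ℕ} [Fact r.Prime] (K : Subgroup G) [K.Normal] (P : Sylow 17 G)
    (hP : K ≤ Subgroup.normalizer (P : Set G)) (hr17 : r ≠ 17) (hK : ¬ r ∣ K.index)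
    (hdvd : 17 ∣ Nat.card (Sylow r G)) (hsq : ¬ 17 * 17 ∣ Nat.card (Sylow r G))
    (hmod : ¬ 17 ≡ 1 [MOD r]) : False := by
  haveI : Fact (Nat.Prime 17) := ⟨by norm_num⟩
  rw [← card_sylow_eq_of_not_dvd_index K hK] at hdvd hsq
  set Q : Sylow 17 K := infSylow K P with hQ
  haveI hQn : (Q : Subgroup K).Normal := by
    rw [hQ, coe_infSylow, ← Subgroup.inf_subgroupOf_right]
    refine Subgroup.normal_subgroupOf_of_le_normalizer ?_
    exact (le_inf hP Subgroup.le_normalizer).trans Subgroup.inf_normalizer_le_normalizer_inf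
  let E : Sylow r K := default
  rw [card_sylow_eq_quotient_mul (Q : Subgroup K) E] at hdvd hsq
  have hq : ¬ 17 ∣ Nat.card (Sylow r (K ⧸ (Q : Subgroup K))) := fun h => by
    let E' : Sylow r (K ⧸ (Q : Subgroup K)) := default
    exact Q.not_dvd_index <| Subgroup.index_eq_card (Q : Subgroup K) ▸
      (h.trans ((Sylow.card_dvd_index E').trans (Subgroup.index_dvd_card _)))
  set W := ((E : Subgroup K) ⊔ (Q : Subgroup K) : Subgroup K) with hW
  set n := Nat.card (Sylow r W) with hn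
  let E₂ : Sylow r W := E.subtype le_sup_left
  have hidx : E₂.index ∣ Nat.card (Q : Subgroup K) := by
    have hc : Nat.Coprime E₂.index (Nat.card (E : Subgroup K)) := by
      obtain ⟨j, hj⟩ := IsPGroup.iff_card.mp E.2
      rw [hj]
      exact (((Fact.out : r.Prime).coprime_iff_not_dvd.mpr E₂.not_dvd_index).symm).pow_right j
    refine Nat.Coprime.dvd_of_dvd_mul_left hc ?_
    refine Dvd.dvd.trans (Subgroup.index_dvd_card _) ?_
    exact CfsgLib.SelfCent.card_sup_dvd_mul (E : Subgroup K) (Q : Subgroup K)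
  obtain ⟨m, hm⟩ := IsPGroup.iff_card.mp Q.2
  obtain ⟨j, -, hj⟩ := (Nat.dvd_prime_pow (by norm_num)).mp
    (hm ▸ (Sylow.card_dvd_index E₂).trans hidx : n ∣ 17 ^ m)
  have h17 : 17 ∣ n := ((Nat.Prime.dvd_mul (by norm_num)).mp hdvd).resolve_left hq
  have hj1 : j = 1 := by
    rcases j with - | - | j
    · rw [hj, pow_zero] at h17; norm_num at h17
    · rfl
    · refine absurd (Dvd.dvd.mul_left ?_ _) hsq
      rw [hj, show 17 * 17 = 17 ^ 2 by norm_num]
      exact pow_dvd_pow 17 (by omega)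
  have hn1 := card_sylow_modEq_one r W
  rw [← hn, hj, hj1, pow_one] at hn1
  exact hmod hn1

theorem main (hZ : Subgroup.center G = ⊥)
    (hNS : {c : ℕ | ∃ r : ℕ, r.Prime ∧ r ∣ Nat.card G ∧ c = Nat.card (Sylow r G)} =
      ({18, 136, 153} : Set ℕ)) {F : Type*} [Field F] [Fintype F] (hF : Fintype.card F = 17) :
    Nonempty (G ≃* ProjectiveSpecialLinearGroup (Fin 2) F) ∨
      Nonempty (G ≃* (GL (Fin 2) F ⧸ Subgroup.center (GL (Fin 2) F))) := by
  classical
  haveI h17 : Fact (Nat.Prime 17) := ⟨by norm_num⟩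
  haveI h2 : Fact (Nat.Prime 2) := ⟨Nat.prime_two⟩
  haveI h3 : Fact (Nat.Prime 3) := ⟨Nat.prime_three⟩
  have hmem : ∀ r : ℕ, r.Prime → r ∣ Nat.card G → (r = 17 ∧ Nat.card (Sylow r G) = 18) ∨
      ((r = 3 ∨ r = 5) ∧ Nat.card (Sylow r G) = 136) ∨
      ((r = 2 ∨ r = 19) ∧ Nat.card (Sylow r G) = 153) := by
    intro r hr hrd
    haveI := Fact.mk hr
    have h : Nat.card (Sylow r G) ∈ ({18, 136, 153} : Set ℕ) := hNS ▸ ⟨r, hr, hrd, rfl⟩
    have hd := (Nat.modEq_iff_dvd' Nat.card_pos).mp (card_sylow_modEq_one r G).symm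
    rcases h with h | h | h
    · rw [h] at hd
      exact Or.inl ⟨(Nat.prime_dvd_prime_iff_eq hr (by norm_num)).mp hd, h⟩
    · rw [h, show 136 - 1 = 3 ^ 3 * 5 by norm_num] at hd
      refine Or.inr (Or.inl ⟨?_, h⟩)
      rcases hr.dvd_mul.mp hd with h' | h'
      · exact Or.inl ((Nat.prime_dvd_prime_iff_eq hr Nat.prime_three).mp (hr.dvd_of_dvd_pow h'))
      · exact Or.inr ((Nat.prime_dvd_prime_iff_eq hr (by norm_num)).mp h')
    · rw [Set.mem_singleton_iff] at h
      rw [h, show 153 - 1 = 2 ^ 3 * 19 by norm_num] at hd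
      refine Or.inr (Or.inr ⟨?_, h⟩)
      rcases hr.dvd_mul.mp hd with h' | h'
      · exact Or.inl ((Nat.prime_dvd_prime_iff_eq hr Nat.prime_two).mp (hr.dvd_of_dvd_pow h'))
      · exact Or.inr ((Nat.prime_dvd_prime_iff_eq hr (by norm_num)).mp h')
  obtain ⟨r, hr, hrd, hr18⟩ : (18 : ℕ) ∈
      {c : ℕ | ∃ r : ℕ, r.Prime ∧ r ∣ Nat.card G ∧ c = Nat.card (Sylow r G)} := by
    rw [hNS]; exact Set.mem_insert _ _
  have hn17 : Nat.card (Sylow 17 G) = 18 := by
    rcases hmem r hr hrd with ⟨rfl, h⟩ | ⟨-, h⟩ | ⟨-, h⟩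
    · exact h
    · omega
    · omega
  let P : Sylow 17 G := default
  have h18G : 18 ∣ Nat.card G := by
    rw [← hn17]
    exact (Sylow.card_dvd_index P).trans (Subgroup.index_dvd_card _)
  have hn2 : Nat.card (Sylow 2 G) = 153 := by
    rcases hmem 2 Nat.prime_two (by omega) with ⟨h, -⟩ | ⟨h, -⟩ | ⟨-, h⟩
    · omega
    · omega
    · exact h
  have hn3 : Nat.card (Sylow 3 G) = 136 := by
    rcases hmem 3 Nat.prime_three (by omega) with ⟨h, -⟩ | ⟨-, h⟩ | ⟨h, -⟩
    · omega
    · exact h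
    · omega
  haveI := Fintype.ofFinite (Sylow 17 G)
  set X := SuccPrime.image G 17 with hX
  set f := MulAction.toPermHom G (Sylow 17 G) with hf
  have hz : Zassenhaus.ZG X (Sylow 17 G) := SuccPrime.zg (by rw [hn17])
  haveI := Zassenhaus.transitive hz
  have hα : Fintype.card (Sylow 17 G) = 17 + 1 := by rw [← Nat.card_eq_fintype_card, hn17]
  obtain ⟨a, b, hab⟩ := Fintype.exists_pair_of_one_lt_card (α := Sylow 17 G) (by omega)
  set d := Nat.card (Zassenhaus.D2 X a b)
  have hd : d ∣ 16 := by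
    have h := Zassenhaus.card_D2_dvd hz hab
    rwa [hn17] at h
  have hXc : Nat.card X = (17 + 1) * 17 * d := by
    rw [Zassenhaus.card_group hz hab, hn17]
  obtain ⟨S⟩ := DegreePrimeSucc.exists_setting (G := X) (by norm_num) hα hXc
    (lt_of_le_of_lt (Nat.le_of_dvd (by norm_num) hd) (by norm_num))
  have hXcard := card_cases S
  set K := f.ker with hK
  have eQ : (G ⧸ K) ≃* X := QuotientGroup.quotientKerEquivRange f
  have hKidx : K.index = Nat.card X := by
    rw [Subgroup.index_eq_card, Nat.card_congr eQ.toEquiv]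
  have hKP : ∀ Q : Sylow 17 G, K ≤ Subgroup.normalizer (Q : Set G) := fun Q g hg =>
    Sylow.smul_eq_iff_mem_normalizer.mp (Equiv.Perm.ext_iff.mp (MonoidHom.mem_ker.mp hg) Q)
  have hq2 : Nat.card (Sylow 2 (G ⧸ K)) = 153 := by
    rw [card_sylow_congr eQ]; exact card_sylow_two S
  have hq3 : Nat.card (Sylow 3 (G ⧸ K)) = 136 := by
    rw [card_sylow_congr eQ]
    refine card_sylow_three S ?_
    rw [← card_sylow_congr eQ, ← hn3]
    exact card_sylow_quotient_dvd K
  have hnorm : ∀ s : ℕ, s.Prime → Nat.card (Sylow s (G ⧸ K)) = Nat.card (Sylow s G) →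
      ∀ R : Sylow s G, K ≤ Subgroup.normalizer (R : Set G) := by
    intro s hs he R
    haveI := Fact.mk hs
    have h := card_sylow_eq_quotient_mul K R
    rw [he] at h
    have h1 : Nat.card (Sylow s ((R : Subgroup G) ⊔ K : Subgroup G)) = 1 :=
      mul_left_cancel₀ Nat.card_pos.ne' (h.symm.trans (mul_one _).symm)
    haveI : Subsingleton (Sylow s ((R : Subgroup G) ⊔ K : Subgroup G)) :=
      (Nat.card_eq_one_iff_unique.mp h1).1
    have hn : ((R.subtype le_sup_left : Sylow s ((R : Subgroup G) ⊔ K : Subgroup G)) :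
        Subgroup ((R : Subgroup G) ⊔ K : Subgroup G)).Normal := Sylow.normal_of_subsingleton _
    rw [Sylow.coe_subtype] at hn
    exact le_sup_right.trans (Subgroup.le_normalizer_of_normal_subgroupOf le_sup_left)
  have hall : ∀ s : ℕ, s.Prime → ∀ R : Sylow s G, K ≤ Subgroup.normalizer (R : Set G) := by
    intro s hs
    by_cases hsd : s ∣ Nat.card G
    · rcases hmem s hs hsd with ⟨rfl, -⟩ | ⟨rfl | rfl, hn⟩ | ⟨rfl | rfl, hn⟩
      · exact hKP
      · exact hnorm 3 hs (hq3.trans hn3.symm)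
      · haveI := Fact.mk hs
        exact (false_of_other (r := 5) K P (hKP P) (by norm_num)
          (by rw [hKidx]; omega) (by rw [hn]; norm_num) (by rw [hn]; norm_num) (by decide)).elim
      · exact hnorm 2 hs (hq2.trans hn2.symm)
      · haveI := Fact.mk hs
        exact (false_of_other (r := 19) K P (hKP P) (by norm_num)
          (by rw [hKidx]; omega) (by rw [hn]; norm_num) (by rw [hn]; norm_num) (by decide)).elim
    · intro R
      haveI := Fact.mk hs
      have hR : (R : Subgroup G) = ⊥ := by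
        refine Subgroup.eq_bot_of_card_eq _ ?_
        obtain ⟨j, hj⟩ := IsPGroup.iff_card.mp R.2
        rcases j with - | j
        · rw [hj, pow_zero]
        · exact absurd ((dvd_pow_self s (Nat.succ_ne_zero j)).trans
            (hj ▸ Subgroup.card_subgroup_dvd_card (R : Subgroup G))) hsd
      rw [show ((R : Set G)) = ((R : Subgroup G) : Set G) from rfl, hR, Subgroup.normalizer_eq_top]
      exact le_top
  have hbot : K = ⊥ := SuccPrime.eq_bot_of_le_normalizers hZ K hall
  have eG : G ≃* X := MulEquiv.ofBijective f.rangeRestrict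
    ⟨fun x y h => (MonoidHom.ker_eq_bot_iff f).mp hbot (congrArg Subtype.val h),
      f.rangeRestrict_surjective⟩
  have hσ : Fintype.card (ZMod 17) = Fintype.card F := by rw [ZMod.card, hF]
  rcases cases S with ⟨-, ⟨e⟩⟩ | ⟨-, ⟨e⟩⟩
  · obtain ⟨e'⟩ := CfsgLib.BrauerTuan.psl_congr hσ
    exact Or.inl ⟨(eG.trans e).trans e'⟩
  · obtain ⟨e'⟩ := pgl_congr (FiniteField.ringEquivOfCardEq hσ)
    exact Or.inr ⟨(eG.trans e).trans e'⟩

end CfsgLib.SylowNumber.Eighteen
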