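import Mathlib
import Cfsg.Agent.Lib.SylowNumber.Basic

/-!
Groups with `2 p + 1` Sylow `p`-subgroups: the reduced configuration.
-/

namespace CfsgLib.SylowNumber

open scoped Pointwise

set_option linter.style.haveILetI false

variable {G : Type*} [Group G] [Finite G] {p : ℕ} [Fact p.Prime]

/-- A `p`-element fixing a Sylow subgroup lies in it. -/
theorem mem_of_isPGroup_smul_eq {R : Subgroup G} (hR : IsPGroup p R) {Q : Sylow p G} {g : G}
    (hg : g ∈ R) (hfix : g • Q = Q) : g ∈ Q := by
  have h : g ∈ R ⊓ Subgroup.normalizer (Q : Set G) := ⟨hg, Sylow.smul_eq_iff_mem_normalizer.mp hfix⟩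
  rw [IsPGroup.inf_normalizer_sylow hR Q] at h
  exact h.2

/-- The only Sylow subgroup fixed by `P` is `P`. -/
theorem eq_of_forall_smul_eq {P Q : Sylow p G} (h : ∀ x ∈ (P : Subgroup G), x • Q = Q) : Q = P :=
  Sylow.ext (P.is_maximal' Q.2 fun x hx => mem_of_isPGroup_smul_eq P.2 hx (h x hx))

/-- The stabiliser in `P` of a Sylow subgroup. -/
theorem stabilizer_eq_inf (P Q : Sylow p G) :
    MulAction.stabilizer (P : Subgroup G) Q = (Q : Subgroup G).subgroupOf P := by
  ext x
  rw [MulAction.mem_stabilizer_iff, Subgroup.mem_subgroupOf]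
  refine ⟨fun h => mem_of_isPGroup_smul_eq P.2 x.2 h, fun h => ?_⟩
  exact Sylow.smul_eq_iff_mem_normalizer.mpr (Subgroup.le_normalizer h)

/-- The data of the reduced configuration. -/
structure Reduced (G : Type*) [Group G] (p : ℕ) : Prop where
  two_lt : 2 < p
  card_sylow : Nat.card (Sylow p G) = 2 * p + 1
  faithful : ∀ g : G, (∀ Q : Sylow p G, g • Q = Q) → g = 1
  eq_top : ∀ M : Subgroup G, M.Normal → ¬ p ∣ M.index → M = ⊤

namespace Reduced

variable (hG : Reduced G p)
include hG

theorem orbit_card {P Q : Sylow p G} (hQ : Q ≠ P) :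
    Nat.card (MulAction.orbit (P : Subgroup G) Q) = p := by
  obtain ⟨n, hn⟩ := P.2.card_orbit Q
  have hne : Nat.card (MulAction.orbit (P : Subgroup G) Q) ≠ 1 := fun h => hQ <|
    eq_of_forall_smul_eq fun x hx => by
      haveI := (Nat.card_eq_one_iff_unique.mp h).1
      exact congrArg Subtype.val (Subsingleton.elim
        (⟨(⟨x, hx⟩ : (P : Subgroup G)) • Q, MulAction.mem_orbit _ _⟩ : MulAction.orbit (P : Subgroup G) Q)
        ⟨Q, MulAction.mem_orbit_self _⟩)
  have hle : Nat.card (MulAction.orbit (P : Subgroup G) Q) ≤ 2 * p + 1 :=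
    hG.card_sylow ▸ Nat.card_le_card_of_injective _ Subtype.val_injective
  rw [hn] at hne hle ⊢
  have h2 := hG.two_lt
  match n with
  | 0 => simp at hne
  | 1 => exact pow_one p
  | n + 2 =>
    have : p ^ 2 ≤ p ^ (n + 2) := Nat.pow_le_pow_right (by omega) (by omega)
    nlinarith

theorem card_eq (P : Sylow p G) {Q : Sylow p G} (hQ : Q ≠ P) :
    Nat.card (P : Subgroup G) = p * Nat.card ((P : Subgroup G) ⊓ Q : Subgroup G) := by
  have h := Subgroup.index_mul_card (MulAction.stabilizer (P : Subgroup G) Q)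
  rw [MulAction.index_stabilizer, ← Nat.card_coe_set_eq, hG.orbit_card hQ, stabilizer_eq_inf,
    ← Subgroup.inf_subgroupOf_left,
    Nat.card_congr (Subgroup.subgroupOfEquivOfLe inf_le_left).toEquiv] at h
  exact h.symm

theorem inf_eq_of_mem_orbit {P Q R : Sylow p G} (hQ : Q ≠ P)
    (hR : R ∈ MulAction.orbit (P : Subgroup G) Q) :
    (P : Subgroup G) ⊓ R = (P : Subgroup G) ⊓ Q := by
  obtain ⟨x, rfl⟩ := hR
  haveI : (MulAction.stabilizer (P : Subgroup G) Q).Normal := by
    refine Subgroup.normal_of_index_eq_minFac_card ?_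
    obtain ⟨n, hn⟩ := IsPGroup.iff_card.mp P.2
    rw [MulAction.index_stabilizer, ← Nat.card_coe_set_eq, hG.orbit_card hQ, hn]
    match n with
    | 0 =>
      have := hG.card_eq P hQ
      rw [hn, pow_zero] at this
      exact absurd (Nat.eq_one_of_mul_eq_one_right this.symm) (Fact.out : p.Prime).ne_one
    | n + 1 => rw [Nat.pow_minFac (by omega), (Fact.out : p.Prime).minFac_eq]
  have h := MulAction.stabilizer_smul_eq_stabilizer_map_conj x Q
  rw [show Subgroup.map (MulAut.conj x).toMonoidHom (MulAction.stabilizer (P : Subgroup G) Q) =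
    MulAut.conj x • MulAction.stabilizer (P : Subgroup G) Q from rfl,
    Subgroup.Normal.conj_smul_eq_self x (MulAction.stabilizer (P : Subgroup G) Q)] at h
  rw [stabilizer_eq_inf, stabilizer_eq_inf, Subgroup.subgroupOf_inj, inf_comm, inf_comm (Q : Subgroup G)] at h
  exact h

theorem exists_two_orbits (P : Sylow p G) : ∃ a b : Sylow p G, a ≠ P ∧ b ≠ P ∧
    b ∉ MulAction.orbit (P : Subgroup G) a ∧
    ∀ Q, Q = P ∨ Q ∈ MulAction.orbit (P : Subgroup G) a ∨ Q ∈ MulAction.orbit (P : Subgroup G) b := by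
  have hp : 0 < p := (Fact.out : p.Prime).pos
  haveI : Nontrivial (Sylow p G) := Finite.one_lt_card_iff_nontrivial.mp (by rw [hG.card_sylow]; omega)
  obtain ⟨a, ha⟩ := exists_ne P
  have hOa := hG.orbit_card ha
  rw [Nat.card_coe_set_eq] at hOa
  obtain ⟨b, hb⟩ : ∃ b, b ∉ insert P (MulAction.orbit (P : Subgroup G) a) := by
    by_contra h
    push Not at h
    have h1 := Set.ncard_insert_le P (MulAction.orbit (P : Subgroup G) a)
    rw [Set.eq_univ_of_forall h, Set.ncard_univ, hG.card_sylow, hOa] at h1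
    omega
  rw [Set.mem_insert_iff, not_or] at hb
  refine ⟨a, b, ha, hb.1, hb.2, fun Q => ?_⟩
  have hOb := hG.orbit_card hb.1
  rw [Nat.card_coe_set_eq] at hOb
  have hd : Disjoint (MulAction.orbit (P : Subgroup G) a) (MulAction.orbit (P : Subgroup G) b) :=
    (MulAction.orbit.eq_or_disjoint a b).resolve_left fun h => hb.2 (h ▸ MulAction.mem_orbit_self b)
  have hP : P ∉ MulAction.orbit (P : Subgroup G) a ∪ MulAction.orbit (P : Subgroup G) b := by
    have key : ∀ c, c ≠ P → P ∉ MulAction.orbit (P : Subgroup G) c := by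
      intro c hc hm
      obtain ⟨x, hx⟩ := hm
      refine hc ?_
      have h1 : c = x⁻¹ • P := eq_inv_smul_iff.mpr hx
      rw [h1]
      exact Sylow.smul_eq_iff_mem_normalizer.mpr (Subgroup.le_normalizer (x⁻¹).2)
    rintro (h | h)
    exacts [key a ha h, key b hb.1 h]
  have hall : insert P (MulAction.orbit (P : Subgroup G) a ∪ MulAction.orbit (P : Subgroup G) b) =
      Set.univ := by
    refine Set.eq_univ_of_univ_subset ?_
    have := Set.eq_of_subset_of_ncard_le (Set.subset_univ
      (insert P (MulAction.orbit (P : Subgroup G) a ∪ MulAction.orbit (P : Subgroup G) b))) (by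
        rw [Set.ncard_univ, hG.card_sylow, Set.ncard_insert_of_notMem hP, Set.ncard_union_eq hd, hOa, hOb]
        omega)
    rw [this]
  have := hall ▸ Set.mem_univ Q
  simpa using this

theorem card_sylow_subgroup (P : Sylow p G) : Nat.card (P : Subgroup G) = p := by
  classical
  obtain ⟨a, b, ha, hb, hab, hcover⟩ := hG.exists_two_orbits P
  -- in every Sylow subgroup the two traces meet trivially and have order at most `p`
  have hbot : ∀ R c d : Sylow p G, c ≠ R → d ≠ R →
      (∀ Q, Q = R ∨ Q ∈ MulAction.orbit (R : Subgroup G) c ∨ Q ∈ MulAction.orbit (R : Subgroup G) d) →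
      ((R : Subgroup G) ⊓ c) ⊓ ((R : Subgroup G) ⊓ d) = ⊥ := by
    intro R c d hc hd hcov
    rw [eq_bot_iff]
    rintro x ⟨⟨hxR, hxc⟩, -, hxd⟩
    refine Subgroup.mem_bot.mpr (hG.faithful x fun Q => ?_)
    have key : ∀ e, e ≠ R → x ∈ (e : Subgroup G) → ∀ Q ∈ MulAction.orbit (R : Subgroup G) e, x • Q = Q := by
      intro e he hxe Q hQ
      have hx : x ∈ (R : Subgroup G) ⊓ Q := by
        rw [hG.inf_eq_of_mem_orbit he hQ]; exact ⟨hxR, hxe⟩
      exact Sylow.smul_eq_iff_mem_normalizer.mpr (Subgroup.le_normalizer hx.2)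
    rcases hcov Q with rfl | h | h
    · exact Sylow.smul_eq_iff_mem_normalizer.mpr (Subgroup.le_normalizer hxR)
    · exact key c hc hxc Q h
    · exact key d hd hxd Q h
  by_contra hne
  -- now every Sylow subgroup has order `p ^ 2`
  have hcardR : ∀ R c : Sylow p G, c ≠ R → Nat.card ((R : Subgroup G) ⊓ c : Subgroup G) = p := by
    intro R c hc
    obtain ⟨c', d', hc', hd', -, hcov⟩ := hG.exists_two_orbits R
    have hRP : Nat.card (R : Subgroup G) = Nat.card (P : Subgroup G) :=
      Nat.card_congr (Sylow.equiv R P).toEquiv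
    have h1 := hG.card_eq R hc
    have h1' := hG.card_eq R hc'
    have h1'' := hG.card_eq R hd'
    have hle : Nat.card ((R : Subgroup G) ⊓ c' : Subgroup G) ≤ p := by
      have hmul := Subgroup.relIndex_mul_relIndex ⊥ _ _ bot_le
        (inf_le_left : (R : Subgroup G) ⊓ c' ≤ R)
      have hinf := hbot R c' d' hc' hd' hcov
      have hk : Nat.card ((R : Subgroup G) ⊓ c' : Subgroup G) ≤
          ((R : Subgroup G) ⊓ d').relIndex (R : Subgroup G) := by
        have hd0 : ((R : Subgroup G) ⊓ d').relIndex ((R : Subgroup G) ⊓ c') =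
            Nat.card ((R : Subgroup G) ⊓ c' : Subgroup G) := by
          rw [← Subgroup.inf_relIndex_right, inf_comm, hinf, Subgroup.relIndex_bot_left]
        rw [← hd0]
        exact Subgroup.relIndex_le_of_le_right inf_le_left (by
          rw [Subgroup.relIndex]; exact Subgroup.index_ne_zero_of_finite)
      have hidx : ((R : Subgroup G) ⊓ d').relIndex (R : Subgroup G) = p := by
        have := Subgroup.index_mul_card (((R : Subgroup G) ⊓ d').subgroupOf R)
        rw [Nat.card_congr (Subgroup.subgroupOfEquivOfLe inf_le_left).toEquiv, h1''] at this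
        exact Nat.eq_of_mul_eq_mul_right Nat.card_pos this
      exact hk.trans hidx.le
    have hp := (Fact.out : p.Prime).pos
    have hcc : Nat.card ((R : Subgroup G) ⊓ c : Subgroup G) =
        Nat.card ((R : Subgroup G) ⊓ c' : Subgroup G) :=
      Nat.eq_of_mul_eq_mul_left hp (h1.symm.trans h1')
    obtain ⟨n, hn⟩ := IsPGroup.iff_card.mp (R.2.to_le (inf_le_left : (R : Subgroup G) ⊓ c ≤ R))
    match n with
    | 0 =>
      refine absurd ?_ hne
      rw [← hRP, h1, hn, pow_zero, mul_one]
    | 1 => rw [hn, pow_one]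
    | n + 2 =>
      have h2 : p ^ 2 ≤ p ^ (n + 2) := Nat.pow_le_pow_right hp (by omega)
      have := (Fact.out : p.Prime).two_le
      nlinarith
  -- count incidences between traces and Sylow subgroups
  let 𝓛 : Set (Subgroup G) := {L | ∃ R S : Sylow p G, S ≠ R ∧ L = (R : Subgroup G) ⊓ S}
  haveI : Fintype 𝓛 := Fintype.ofFinite _
  haveI : Fintype (Sylow p G) := Fintype.ofFinite _
  have hcardL : ∀ L ∈ 𝓛, Nat.card L = p := by
    rintro _ ⟨R, S, h, rfl⟩; exact hcardR R S h
  have hmem : ∀ (R c d : Sylow p G), c ≠ R → d ≠ R →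
      (∀ Q, Q = R ∨ Q ∈ MulAction.orbit (R : Subgroup G) c ∨ Q ∈ MulAction.orbit (R : Subgroup G) d) →
      ∀ L ∈ 𝓛, L ≤ R → L = (R : Subgroup G) ⊓ c ∨ L = (R : Subgroup G) ⊓ d := by
    rintro R c d hc hd hcov L ⟨R', S', hne', rfl⟩ hle
    obtain ⟨T, hT, hLT⟩ : ∃ T : Sylow p G, T ≠ R ∧ (R' : Subgroup G) ⊓ S' ≤ T := by
      by_cases h : R' = R
      · exact ⟨S', fun e => hne' (e.trans h.symm), inf_le_right⟩
      · exact ⟨R', h, inf_le_left⟩
    have he : (R' : Subgroup G) ⊓ S' = (R : Subgroup G) ⊓ T :=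
      Subgroup.eq_of_le_of_card_ge (le_inf hle hLT) (by rw [hcardR R T hT, hcardR R' S' hne'])
    rw [he]
    rcases hcov T with rfl | h | h
    · exact absurd rfl hT
    · exact Or.inl (hG.inf_eq_of_mem_orbit hc h)
    · exact Or.inr (hG.inf_eq_of_mem_orbit hd h)
  have hdiff : ∀ (R c d : Sylow p G), c ≠ R → d ≠ R →
      (∀ Q, Q = R ∨ Q ∈ MulAction.orbit (R : Subgroup G) c ∨ Q ∈ MulAction.orbit (R : Subgroup G) d) →
      (R : Subgroup G) ⊓ c ≠ (R : Subgroup G) ⊓ d := by
    intro R c d hc hd hcov h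
    have h1 := hbot R c d hc hd hcov
    rw [← h, inf_idem] at h1
    have h2 := hcardR R c hc
    rw [h1, Subgroup.card_bot] at h2
    exact (Fact.out : p.Prime).ne_one h2.symm
  have hcount := Finset.sum_card_bipartiteAbove_eq_sum_card_bipartiteBelow
    (fun (L : 𝓛) (R : Sylow p G) => (L : Subgroup G) ≤ R) (s := Finset.univ) (t := Finset.univ)
  have hrow : ∀ L : 𝓛, (Finset.bipartiteAbove (fun (L : 𝓛) (R : Sylow p G) => (L : Subgroup G) ≤ R)
      Finset.univ L).card = p + 1 := by
    rintro ⟨L, R, S, hne', rfl⟩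
    obtain ⟨c, d, hc, hd, hcd, hcov⟩ := hG.exists_two_orbits R
    obtain ⟨e, f, he, hf, hef, hcov', hL⟩ : ∃ e f : Sylow p G, e ≠ R ∧ f ≠ R ∧
        f ∉ MulAction.orbit (R : Subgroup G) e ∧
        (∀ Q, Q = R ∨ Q ∈ MulAction.orbit (R : Subgroup G) e ∨ Q ∈ MulAction.orbit (R : Subgroup G) f) ∧
        (R : Subgroup G) ⊓ S = (R : Subgroup G) ⊓ e := by
      rcases hmem R c d hc hd hcov _ ⟨R, S, hne', rfl⟩ inf_le_left with h | h
      · exact ⟨c, d, hc, hd, hcd, hcov, h⟩
      · refine ⟨d, c, hd, hc, fun h' => hcd ?_, fun Q => ?_, h⟩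
        · exact MulAction.mem_orbit_symm.mp h'
        · exact (hcov Q).imp id Or.symm
    have hset : ((Finset.bipartiteAbove (fun (L : 𝓛) (R : Sylow p G) => (L : Subgroup G) ≤ R)
        Finset.univ ⟨(R : Subgroup G) ⊓ S, R, S, hne', rfl⟩ : Finset (Sylow p G)) : Set (Sylow p G)) =
        insert R (MulAction.orbit (R : Subgroup G) e) := by
      ext Q
      simp only [Finset.coe_bipartiteAbove, Finset.mem_univ, true_and, Set.mem_setOf_eq,
        Set.mem_insert_iff, hL]
      constructor
      · intro hQ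
        rcases hcov' Q with rfl | h | h
        · exact Or.inl rfl
        · exact Or.inr h
        · exfalso
          have h1 : (R : Subgroup G) ⊓ e ≤ (R : Subgroup G) ⊓ f := by
            rw [← hG.inf_eq_of_mem_orbit hf h]; exact le_inf inf_le_left hQ
          exact hdiff R e f he hf hcov' (Subgroup.eq_of_le_of_card_ge h1 (by rw [hcardR R e he, hcardR R f hf]))
      · rintro (rfl | h)
        · exact inf_le_left
        · exact (hG.inf_eq_of_mem_orbit he h).symm.le.trans inf_le_right
    rw [← Set.ncard_coe_finset, hset, Set.ncard_insert_of_notMem, ← Nat.card_coe_set_eq, hG.orbit_card he]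
    intro hm
    obtain ⟨x, hx⟩ := hm
    refine he ?_
    have h1 : e = x⁻¹ • R := eq_inv_smul_iff.mpr hx
    rw [h1]
    exact Sylow.smul_eq_iff_mem_normalizer.mpr (Subgroup.le_normalizer (x⁻¹).2)
  have hcol : ∀ R : Sylow p G, (Finset.bipartiteBelow (fun (L : 𝓛) (R : Sylow p G) => (L : Subgroup G) ≤ R)
      Finset.univ R).card = 2 := by
    intro R
    obtain ⟨c, d, hc, hd, -, hcov⟩ := hG.exists_two_orbits R
    rw [Finset.card_eq_two]
    refine ⟨⟨_, R, c, hc, rfl⟩, ⟨_, R, d, hd, rfl⟩, fun h => hdiff R c d hc hd hcov (congrArg Subtype.val h), ?_⟩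
    ext ⟨L, hL⟩
    simp only [Finset.mem_bipartiteBelow, Finset.mem_univ, true_and, Finset.mem_insert,
      Finset.mem_singleton, Subtype.mk.injEq]
    exact ⟨hmem R c d hc hd hcov L hL, by rintro (rfl | rfl) <;> exact inf_le_left⟩
  rw [Finset.sum_congr rfl fun L _ => hrow L, Finset.sum_congr rfl fun R _ => hcol R] at hcount
  simp only [Finset.sum_const, Finset.card_univ, smul_eq_mul] at hcount
  rw [← Nat.card_eq_fintype_card, ← Nat.card_eq_fintype_card, hG.card_sylow] at hcount
  have h2 := hG.two_lt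
  rcases Nat.lt_or_ge (Nat.card 𝓛) 4 with h | h <;> nlinarith

/-- The centraliser of a Sylow subgroup is the subgroup itself. -/
theorem centralizer_le (P : Sylow p G) : Subgroup.centralizer ((P : Subgroup G) : Set G) ≤ P := by
  classical
  obtain ⟨a, b, ha, hb, hab, hcover⟩ := hG.exists_two_orbits P
  have hP := hG.card_sylow_subgroup P
  have hab' : a ∉ MulAction.orbit (P : Subgroup G) b := fun h => hab (MulAction.mem_orbit_symm.mp h)
  have hcomm : ∀ c ∈ Subgroup.centralizer ((P : Subgroup G) : Set G),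
      ∀ (x : (P : Subgroup G)) (Q : Sylow p G), c • x • Q = x • c • Q := by
    intro c hc x Q
    show c • ((x : G) • Q) = (x : G) • (c • Q)
    rw [← mul_smul, ← mul_smul, Subgroup.mem_centralizer_iff.mp hc x x.2]
  have hfixP : ∀ c ∈ Subgroup.centralizer ((P : Subgroup G) : Set G), c • P = P := fun c hc =>
    Sylow.smul_eq_iff_mem_normalizer.mpr (Subgroup.centralizer_le_normalizer _ hc)
  -- a centralising element preserving one orbit lies in `P`
  have key : ∀ e f : Sylow p G, e ≠ P → f ∉ MulAction.orbit (P : Subgroup G) e → f ≠ P →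
      (∀ Q, Q = P ∨ Q ∈ MulAction.orbit (P : Subgroup G) e ∨ Q ∈ MulAction.orbit (P : Subgroup G) f) →
      ∀ c ∈ Subgroup.centralizer ((P : Subgroup G) : Set G),
        c • e ∈ MulAction.orbit (P : Subgroup G) e → c ∈ P := by
    intro e f he hfe hf hcov c hc hce
    obtain ⟨x, hx⟩ := hce
    have hPc : (P : Subgroup G) ≤ Subgroup.centralizer ((P : Subgroup G) : Set G) := by
      intro y hy
      refine Subgroup.mem_centralizer_iff.mpr fun z hz => ?_
      haveI : IsCyclic (P : Subgroup G) := isCyclic_of_prime_card hP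
      exact congrArg Subtype.val (IsCyclic.commGroup.mul_comm (⟨z, hz⟩ : (P : Subgroup G)) ⟨y, hy⟩)
    have hxP : (x : G) ∈ (P : Subgroup G) := x.2
    set c' := (x : G)⁻¹ * c
    have hc' : c' ∈ Subgroup.centralizer ((P : Subgroup G) : Set G) :=
      Subgroup.mul_mem _ (hPc ((P : Subgroup G).inv_mem hxP)) hc
    suffices c' ∈ (P : Subgroup G) by
      have := (P : Subgroup G).mul_mem hxP this
      show c ∈ (P : Subgroup G)
      simpa [c', ← mul_assoc] using this
    have he' : c' • e = e := by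
      show ((x : G)⁻¹ * c) • e = e
      rw [mul_smul, ← hx]
      exact inv_smul_smul (x : G) e
    have hOe : ∀ Q ∈ MulAction.orbit (P : Subgroup G) e, c' • Q = Q := by
      rintro _ ⟨y, rfl⟩
      rw [hcomm c' hc' y e, he']
    have hf' : c' • f ∈ MulAction.orbit (P : Subgroup G) f := by
      rcases hcov (c' • f) with h | h | h
      · refine absurd ?_ hf
        exact smul_left_cancel c' (h.trans (hfixP c' hc').symm)
      · refine absurd ?_ hfe
        have : c' • f = c' • (c' • f) := (hOe _ h).symm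
        rw [smul_left_cancel_iff] at this
        rwa [this]
      · exact h
    obtain ⟨y, hy⟩ := hf'
    have hOf : ∀ Q ∈ MulAction.orbit (P : Subgroup G) f, c' • Q = y • Q := by
      rintro _ ⟨z, rfl⟩
      show c' • z • f = y • z • f
      rw [hcomm c' hc' z f, ← hy]
      show (z : G) • (y : G) • f = (y : G) • (z : G) • f
      rw [← mul_smul, ← mul_smul, Subgroup.mem_centralizer_iff.mp (hPc y.2) z z.2]
    have hpow : ∀ (k : ℕ) (Q : Sylow p G), Q ∈ MulAction.orbit (P : Subgroup G) f →
        c' ^ k • Q = y ^ k • Q := by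
      intro k
      induction k with
      | zero => intro Q _; simp
      | succ k ihk =>
        intro Q hQ
        rw [pow_succ', pow_succ', mul_smul c', mul_smul y, ihk Q hQ, hOf]
        exact MulAction.mem_orbit_of_mem_orbit _ hQ
    have hp1 : c' ^ p = 1 := by
      refine hG.faithful _ fun Q => ?_
      rcases hcov Q with rfl | h | h
      · exact hfixP _ (Subgroup.pow_mem _ hc' p)
      · exact Nat.rec (motive := fun k => c' ^ k • Q = Q) (by simp)
          (fun k ihk => by rw [pow_succ, mul_smul, hOe Q h, ihk]) p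
      · rw [hpow p Q h]
        have hy1 := pow_card_eq_one' (x := y)
        rw [hP] at hy1
        rw [hy1, one_smul]
    have hz : IsPGroup p (Subgroup.zpowers c') := by
      intro z
      obtain ⟨z, i, rfl⟩ := z
      refine ⟨1, Subtype.ext ?_⟩
      show ((c' ^ i) ^ (p ^ 1) : G) = 1
      rw [pow_one, ← zpow_natCast, ← zpow_mul, mul_comm, zpow_mul, zpow_natCast, hp1, one_zpow]
    exact mem_of_isPGroup_smul_eq hz (Subgroup.mem_zpowers c') (hfixP c' hc')
  intro c hc
  by_contra hcP
  have hswap : ∀ c ∈ Subgroup.centralizer ((P : Subgroup G) : Set G), c ∉ (P : Subgroup G) →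
      c • a ∈ MulAction.orbit (P : Subgroup G) b ∧ c • b ∈ MulAction.orbit (P : Subgroup G) a := by
    intro c hc hcP
    constructor
    · rcases hcover (c • a) with h | h | h
      · exact absurd (smul_left_cancel c (h.trans (hfixP c hc).symm)) ha
      · exact absurd (key a b ha hab hb hcover c hc h) hcP
      · exact h
    · rcases hcover (c • b) with h | h | h
      · exact absurd (smul_left_cancel c (h.trans (hfixP c hc).symm)) hb
      · exact h
      · exact absurd (key b a hb hab' ha (fun Q => (hcover Q).imp id Or.symm) c hc h) hcP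
  obtain ⟨h1, h2⟩ := hswap c hc hcP
  have hcc : c * c ∈ (P : Subgroup G) := by
    refine key a b ha hab hb hcover _ (Subgroup.mul_mem _ hc hc) ?_
    obtain ⟨y, hy⟩ := h1
    obtain ⟨z, hz⟩ := h2
    rw [mul_smul, ← hy]
    show c • y • b ∈ _
    rw [hcomm c hc y b, ← hz]
    show y • z • a ∈ _
    rw [← mul_smul]
    exact MulAction.mem_orbit _ _
  obtain ⟨m, hm⟩ : ∃ m, p = 2 * m + 1 :=
    (Fact.out : p.Prime).odd_of_ne_two (by have := hG.two_lt; omega)
  set t := c ^ p with ht
  have htP : t ∉ (P : Subgroup G) := by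
    intro h
    refine hcP ?_
    rw [ht, show c ^ p = c ^ (2 * m + 1) from congrArg (c ^ ·) hm, pow_succ, pow_mul, sq] at h
    exact ((P : Subgroup G).mul_mem_cancel_left ((P : Subgroup G).pow_mem hcc m)).mp h
  have htc : t ∈ Subgroup.centralizer ((P : Subgroup G) : Set G) := Subgroup.pow_mem _ hc p
  have ht2 : t ^ 2 = 1 := by
    rw [ht, ← pow_mul, mul_comm, pow_mul, sq]
    have := pow_card_eq_one' (x := (⟨c * c, hcc⟩ : (P : Subgroup G)))
    rw [hP] at this
    exact congrArg Subtype.val this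
  obtain ⟨ht_a, ht_b⟩ := hswap t htc htP
  haveI : Fintype (Sylow p G) := Fintype.ofFinite _
  let φ := MulAction.toPermHom G (Sylow p G)
  have hfixed : Function.fixedPoints (φ t) = {P} := by
    ext Q
    refine ⟨fun hQ => ?_, fun hQ => hQ ▸ hfixP t htc⟩
    have hQ' : t • Q = Q := hQ
    have hd : Disjoint (MulAction.orbit (P : Subgroup G) a) (MulAction.orbit (P : Subgroup G) b) :=
      (MulAction.orbit.eq_or_disjoint a b).resolve_left fun h => hab (h ▸ MulAction.mem_orbit_self b)
    have himage : ∀ e f : Sylow p G, t • e ∈ MulAction.orbit (P : Subgroup G) f →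
        ∀ R ∈ MulAction.orbit (P : Subgroup G) e, t • R ∈ MulAction.orbit (P : Subgroup G) f := by
      rintro e f hef _ ⟨y, rfl⟩
      show t • y • e ∈ _
      rw [hcomm t htc y e]
      exact MulAction.mem_orbit_of_mem_orbit _ hef
    rcases hcover Q with h | h | h
    · exact h
    · exact absurd (hQ' ▸ himage a b ht_a Q h) (fun h' => hd.le_bot ⟨h, h'⟩)
    · exact absurd (hQ' ▸ himage b a ht_b Q h) (fun h' => hd.le_bot ⟨h', h⟩)
  have hsign : Equiv.Perm.sign (φ t) = -1 := by
    rw [Equiv.Perm.sign_of_pow_two_eq_one (by rw [← map_pow, ht2, map_one])]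
    have h1 : Fintype.card (Function.fixedPoints (φ t)) = 1 := by
      rw [← Nat.card_eq_fintype_card, hfixed, Nat.card_coe_set_eq, Set.ncard_singleton]
    rw [h1, ← Nat.card_eq_fintype_card, hG.card_sylow, Nat.add_sub_cancel, Nat.mul_div_cancel_left _ two_pos]
    exact Odd.neg_one_pow ⟨m, hm⟩
  let ψ : G →* ℤˣ := Equiv.Perm.sign.comp φ
  have hker : ψ.ker = ⊤ := by
    refine hG.eq_top _ inferInstance fun hdvd => ?_
    rw [Subgroup.index_ker] at hdvd
    have h1 : Nat.card ψ.range ≤ 2 := (Subgroup.card_le_card_group _).trans (by simp)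
    have := Nat.le_of_dvd Nat.card_pos hdvd
    have := hG.two_lt
    omega
  have : ψ t = 1 := MonoidHom.mem_ker.mp (hker ▸ Subgroup.mem_top t)
  rw [show ψ t = Equiv.Perm.sign (φ t) from rfl, hsign] at this
  exact absurd this (by decide)

end Reduced

end CfsgLib.SylowNumber
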