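import Mathlib
import Cfsg.Agent.Lib.SylowNumber.Coprime
import Cfsg.Agent.Lib.SylowNumber.TwoMulAddOne

/-!
No finite group has exactly twenty-one Sylow `5`-subgroups.

A minimal counterexample acts faithfully on the 21 Sylow subgroups and has no proper normal
subgroup of index prime to 5. Two Sylow subgroups meeting in a subgroup of index 5 would span a
"line" of at least 6 and hence of all 21 points, so the Sylow subgroups have order 5. The transfer
into a Sylow 2-subgroup inside `N(P)`, together with fixed points and the parity of involutions,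
gives a nontrivial map onto a group of order dividing 4.
-/

namespace CfsgLib.SylowNumber

open scoped Pointwise

set_option linter.style.haveILetI false

universe u

section

variable {G : Type*} [Group G] [Finite G] [Fact (Nat.Prime 5)]

/-- The data of a minimal counterexample. -/
structure Reduced21 (G : Type*) [Group G] : Prop where
  card_sylow : Nat.card (Sylow 5 G) = 21
  faithful : ∀ g : G, (∀ Q : Sylow 5 G, g • Q = Q) → g = 1
  eq_top : ∀ M : Subgroup G, M.Normal → ¬ 5 ∣ M.index → M = ⊤

namespace Reduced21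

variable (hG : Reduced21 G)
include hG

theorem smul_self_of_mem {P : Sylow 5 G} {g : G} (h : g ∈ (P : Subgroup G)) : g • P = P :=
  Sylow.smul_eq_iff_mem_normalizer.mpr (Subgroup.le_normalizer h)

theorem orbit_ncard {P Q : Sylow 5 G} (hQ : Q ≠ P) :
    (MulAction.orbit (P : Subgroup G) Q).ncard = 5 := by
  obtain ⟨n, hn⟩ := P.2.card_orbit Q
  rw [Nat.card_coe_set_eq] at hn
  have hne : (MulAction.orbit (P : Subgroup G) Q).ncard ≠ 1 := fun h => hQ <|
    eq_of_forall_smul_eq fun x hx => by
      obtain ⟨a, ha⟩ := Set.ncard_eq_one.mp h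
      have h1 : (⟨x, hx⟩ : (P : Subgroup G)) • Q ∈ MulAction.orbit (P : Subgroup G) Q :=
        MulAction.mem_orbit _ _
      have h2 := MulAction.mem_orbit_self (M := (P : Subgroup G)) Q
      rw [ha, Set.mem_singleton_iff] at h1 h2
      exact h1.trans h2.symm
  have hle : (MulAction.orbit (P : Subgroup G) Q).ncard ≤ 21 :=
    hG.card_sylow ▸ Set.ncard_le_card _
  rw [hn] at hne hle ⊢
  match n with
  | 0 => simp at hne
  | 1 => rfl
  | n + 2 =>
    have : 5 ^ 2 ≤ 5 ^ (n + 2) := Nat.pow_le_pow_right (by omega) (by omega)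
    omega

theorem card_eq (P : Sylow 5 G) {Q : Sylow 5 G} (hQ : Q ≠ P) :
    Nat.card (P : Subgroup G) = 5 * Nat.card ((P : Subgroup G) ⊓ Q : Subgroup G) := by
  have h := Subgroup.index_mul_card (MulAction.stabilizer (P : Subgroup G) Q)
  rw [MulAction.index_stabilizer, hG.orbit_ncard hQ, stabilizer_eq_inf,
    ← Subgroup.inf_subgroupOf_left,
    Nat.card_congr (Subgroup.subgroupOfEquivOfLe inf_le_left).toEquiv] at h
  exact h.symm

theorem inf_eq_of_mem_orbit {P Q R : Sylow 5 G} (hQ : Q ≠ P)
    (hR : R ∈ MulAction.orbit (P : Subgroup G) Q) :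
    (P : Subgroup G) ⊓ R = (P : Subgroup G) ⊓ Q := by
  obtain ⟨x, rfl⟩ := hR
  haveI : (MulAction.stabilizer (P : Subgroup G) Q).Normal := by
    refine Subgroup.normal_of_index_eq_minFac_card ?_
    obtain ⟨n, hn⟩ := IsPGroup.iff_card.mp P.2
    rw [MulAction.index_stabilizer, hG.orbit_ncard hQ, hn]
    match n with
    | 0 =>
      have := hG.card_eq P hQ
      rw [hn, pow_zero] at this
      omega
    | n + 1 => rw [Nat.pow_minFac (by omega), (Fact.out : Nat.Prime 5).minFac_eq]
  have h := MulAction.stabilizer_smul_eq_stabilizer_map_conj x Q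
  rw [show Subgroup.map (MulAut.conj x).toMonoidHom (MulAction.stabilizer (P : Subgroup G) Q) =
    MulAut.conj x • MulAction.stabilizer (P : Subgroup G) Q from rfl,
    Subgroup.Normal.conj_smul_eq_self x (MulAction.stabilizer (P : Subgroup G) Q)] at h
  rw [stabilizer_eq_inf, stabilizer_eq_inf, Subgroup.subgroupOf_inj, inf_comm,
    inf_comm (Q : Subgroup G)] at h
  exact h

theorem card_inf_eq {P Q R S : Sylow 5 G} (hQ : Q ≠ P) (hS : S ≠ R) :
    Nat.card ((P : Subgroup G) ⊓ Q : Subgroup G) = Nat.card ((R : Subgroup G) ⊓ S : Subgroup G) := by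
  have h1 := hG.card_eq P hQ
  have h2 := hG.card_eq R hS
  have h3 : Nat.card (P : Subgroup G) = Nat.card (R : Subgroup G) :=
    Nat.card_congr (Sylow.equiv P R).toEquiv
  omega

/-- The Sylow subgroups have order 5. -/
theorem card_sylow_subgroup (P : Sylow 5 G) : Nat.card (P : Subgroup G) = 5 := by
  classical
  haveI : Fintype (Sylow 5 G) := Fintype.ofFinite _
  haveI : Nontrivial (Sylow 5 G) :=
    Finite.one_lt_card_iff_nontrivial.mp (by rw [hG.card_sylow]; omega)
  obtain ⟨Q, hQ⟩ := exists_ne P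
  rw [hG.card_eq P hQ]
  suffices h : (P : Subgroup G) ⊓ Q = ⊥ by rw [h, Subgroup.card_bot]
  set D : Subgroup G := (P : Subgroup G) ⊓ Q with hD
  rw [eq_bot_iff]
  intro d hd
  refine Subgroup.mem_bot.mpr (hG.faithful d fun X => hG.smul_self_of_mem ?_)
  by_contra hdX
  have hX : ¬ D ≤ (X : Subgroup G) := fun h => hdX (h hd)
  -- two members of the line of `D` meet exactly in `D`
  have hline : ∀ R R' : Sylow 5 G, R ≠ R' → D ≤ R → D ≤ R' → (R : Subgroup G) ⊓ R' = D :=
    fun R R' hne hR hR' => (Subgroup.eq_of_le_of_card_ge (le_inf hR hR')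
      (hG.card_inf_eq hne.symm hQ).le).symm
  set L : Finset (Sylow 5 G) := Finset.univ.filter (fun R => D ≤ (R : Subgroup G)) with hL
  have h6 : 6 ≤ L.card := by
    have hsub : insert P (MulAction.orbit (P : Subgroup G) Q) ⊆ (L : Set (Sylow 5 G)) := by
      rintro R (rfl | hR)
      · simp [hL, hD]
      · simp only [hL, Finset.coe_filter, Finset.mem_univ, true_and, Set.mem_setOf_eq]
        rw [hD, ← hG.inf_eq_of_mem_orbit hQ hR]
        exact inf_le_right
    have hP : P ∉ MulAction.orbit (P : Subgroup G) Q := by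
      intro hm
      obtain ⟨x, hx⟩ := hm
      refine hQ ?_
      have h1 : Q = x⁻¹ • P := eq_inv_smul_iff.mpr hx
      rw [h1]
      exact hG.smul_self_of_mem (x⁻¹).2
    have := Set.ncard_le_ncard hsub (Finset.finite_toSet L)
    rw [Set.ncard_insert_of_notMem hP, hG.orbit_ncard hQ, Set.ncard_coe_finset] at this
    exact this
  have hneX : ∀ R ∈ L, R ≠ X := fun R hR h => hX (h ▸ (Finset.mem_filter.mp hR).2)
  let O : Sylow 5 G → Finset (Sylow 5 G) := fun R => (MulAction.orbit (X : Subgroup G) R).toFinset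
  have hdisj : (L : Set (Sylow 5 G)).PairwiseDisjoint O := by
    intro R hR R' hR' hne
    rw [Function.onFun, Finset.disjoint_left]
    intro Y hY hY'
    simp only [O, Set.mem_toFinset] at hY hY'
    have hRL := (Finset.mem_filter.mp (Finset.mem_coe.mp hR)).2
    have hRL' := (Finset.mem_filter.mp (Finset.mem_coe.mp hR')).2
    have he : (X : Subgroup G) ⊓ R = (X : Subgroup G) ⊓ R' := by
      rw [← hG.inf_eq_of_mem_orbit (hneX R hR) hY, hG.inf_eq_of_mem_orbit (hneX R' hR') hY']
    have hle : (X : Subgroup G) ⊓ R ≤ D := by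
      rw [← hline R R' hne hRL hRL']
      exact le_inf inf_le_right (he.le.trans inf_le_right)
    have := Subgroup.eq_of_le_of_card_ge hle (hG.card_inf_eq hQ (hneX R hR)).le
    exact hX (this ▸ inf_le_left)
  have hsub : L.biUnion O ⊆ Finset.univ.erase X := by
    intro Y hY
    rw [Finset.mem_biUnion] at hY
    obtain ⟨R, hR, hY⟩ := hY
    simp only [O, Set.mem_toFinset] at hY
    refine Finset.mem_erase.mpr ⟨fun h => hneX R hR ?_, Finset.mem_univ _⟩
    subst h
    obtain ⟨x, hx⟩ := hY
    have h1 : R = x⁻¹ • Y := eq_inv_smul_iff.mpr hx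
    rw [h1]
    exact hG.smul_self_of_mem (x⁻¹).2
  have hcard := Finset.card_le_card hsub
  have hO : ∀ R ∈ L, (O R).card = 5 := fun R hR => by
    simp only [O, ← Set.ncard_eq_toFinset_card']
    exact hG.orbit_ncard (hneX R hR)
  rw [Finset.card_biUnion hdisj, Finset.sum_congr rfl hO, Finset.card_erase_of_mem (Finset.mem_univ _),
    Finset.card_univ, ← Nat.card_eq_fintype_card, hG.card_sylow, Finset.sum_const, smul_eq_mul] at hcard
  omega

/-- There is no nontrivial map to a group of order dividing 4. -/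
theorem hom_eq_one {A : Type*} [Group A] (hA : Nat.card A ∣ 4) (f : G →* A) (g : G) : f g = 1 := by
  have h : f.ker = ⊤ := hG.eq_top f.ker inferInstance fun h5 => by
    rw [Subgroup.index_ker] at h5
    have h6 := (h5.trans (Subgroup.card_subgroup_dvd_card f.range)).trans hA
    omega
  exact MonoidHom.mem_ker.mp (h ▸ Subgroup.mem_top g)

/-- Parity: an involution fixes a number of points congruent to 1 modulo 4. -/
theorem four_dvd_moved {s : G} (hs : s * s = 1) (hs1 : s ≠ 1) :
    4 ∣ 21 - Nat.card {Q : Sylow 5 G // s • Q = Q} := by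
  classical
  haveI : Fintype (Sylow 5 G) := Fintype.ofFinite _
  set σ : Equiv.Perm (Sylow 5 G) := MulAction.toPermHom G (Sylow 5 G) s with hσ
  have happ : ∀ Q, σ Q = s • Q := fun Q => rfl
  have h1 : σ ≠ 1 := fun h => hs1 (hG.faithful s fun Q => by rw [← happ, h]; rfl)
  have h2 : σ ^ 2 = 1 := by rw [hσ, ← map_pow, pow_two, hs, map_one]
  have ho : orderOf σ = 2 := orderOf_eq_prime h2 h1
  obtain ⟨n, hn⟩ := Equiv.Perm.cycleType_prime_order (σ := σ) (ho ▸ Nat.prime_two)
  rw [ho] at hn
  have hsign : Equiv.Perm.sign σ = 1 := by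
    have := hG.hom_eq_one (A := ℤˣ) (by rw [Nat.card_eq_fintype_card]; norm_num)
      (Equiv.Perm.sign.comp (MulAction.toPermHom G (Sylow 5 G))) s
    simpa [hσ] using this
  rw [Equiv.Perm.sign_of_cycleType, hn, Multiset.sum_replicate, Multiset.card_replicate,
    smul_eq_mul, pow_add, mul_comm (n + 1) 2, pow_mul, ← mul_pow] at hsign
  have heven : Even (n + 1) := by
    rcases Nat.even_or_odd (n + 1) with h | h
    · exact h
    · exfalso
      have h3 : ((-1 : ℤˣ) ^ (n + 1)) ^ 2 = 1 := by rw [← pow_mul, mul_comm, pow_mul]; simp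
      simp [h.neg_one_pow] at hsign
  have hsupp : σ.support.card = 2 * (n + 1) := by
    rw [← Equiv.Perm.sum_cycleType, hn, Multiset.sum_replicate, smul_eq_mul, mul_comm]
  have hfix : Nat.card {Q : Sylow 5 G // s • Q = Q} = 21 - σ.support.card := by
    rw [← hG.card_sylow, Nat.card_eq_fintype_card, Nat.card_eq_fintype_card, Fintype.card_subtype,
      ← Finset.card_compl]
    congr 1
    ext Q
    simp [happ]
  have hle : σ.support.card ≤ 21 := by
    rw [← hG.card_sylow, Nat.card_eq_fintype_card]; exact Finset.card_le_univ _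
  obtain ⟨m, hm⟩ := heven
  rw [hfix]
  omega

/-- Transfer: an involution of `S` with no other conjugate in `S` is killed by abelian maps. -/
theorem transfer_kill {A : Type*} [CommGroup A] {S : Subgroup G} (hodd : Odd S.index) (φ : S →* A)
    (hA4 : Nat.card A ∣ 4) (z : G) (hz : z ∈ S) (hzz : z * z = 1)
    (huniq : ∀ g : G, g⁻¹ * z * g ∈ S → g⁻¹ * z * g = z) : φ ⟨z, hz⟩ = 1 := by
  haveI : S.FiniteIndex := inferInstance
  have key : ∀ (k : ℕ) (g₀ : G), g₀⁻¹ * z ^ k * g₀ ∈ S → g₀⁻¹ * z ^ k * g₀ = z ^ k := by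
    intro k g₀ hk
    have hzk : z ^ k = 1 ∨ z ^ k = z := by
      rcases Nat.even_or_odd k with ⟨m, hm⟩ | ⟨m, hm⟩
      · exact Or.inl (by rw [hm, ← two_mul, pow_mul, pow_two, hzz, one_pow])
      · exact Or.inr (by rw [hm, pow_add, pow_mul, pow_two, hzz, one_pow, one_mul, pow_one])
    rcases hzk with h | h <;> rw [h] at hk ⊢
    · simp
    · exact huniq g₀ hk
  have h := MonoidHom.transfer_eq_pow φ z key
  rw [hG.hom_eq_one hA4 (MonoidHom.transfer φ) z] at h
  obtain ⟨m, hm⟩ := hodd
  have hz' : z ^ S.index = z := by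
    rw [hm, pow_add, pow_mul, pow_two, hzz, one_pow, one_mul, pow_one]
  simp only [hz'] at h
  exact h.symm

end Reduced21

/-- A minimal counterexample does not exist. -/
theorem reduced21_false (hG : Reduced21 G) : False := by
  classical
  haveI : Fintype (Sylow 5 G) := Fintype.ofFinite _
  obtain ⟨P⟩ : Nonempty (Sylow 5 G) := inferInstance
  have hP := hG.card_sylow_subgroup P
  haveI : IsCyclic (P : Subgroup G) := isCyclic_of_prime_card hP
  obtain ⟨x₀, hx₀⟩ := IsCyclic.exists_generator (α := (P : Subgroup G))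
  set x : G := (x₀ : G) with hx
  have hox : orderOf x = 5 := by
    rw [hx, Subgroup.orderOf_coe, orderOf_eq_card_of_forall_mem_zpowers hx₀, hP]
  have hx5 : x ^ 5 = 1 := orderOf_dvd_iff_pow_eq_one.mp hox.dvd
  have hPz : ∀ g ∈ (P : Subgroup G), ∃ i : ℕ, i < 5 ∧ g = x ^ i := by
    intro g hg
    have h := (Subgroup.mem_zpowers_iff.mp (hx₀ ⟨g, hg⟩))
    obtain ⟨k, hk⟩ := h
    refine ⟨(k % 5).toNat, by omega, ?_⟩
    have hk' : x ^ k = g := by simpa [hx] using congrArg Subtype.val hk
    rw [← hk', ← zpow_mod_orderOf, hox, ← zpow_natCast]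
    congr 1
    omega
  have hxP : ∀ i : ℕ, x ^ i ∈ (P : Subgroup G) := fun i => pow_mem x₀.2 i
  -- `x` moves every other point
  have hfree : ∀ (i : ℕ) (Q : Sylow 5 G), Q ≠ P → x ^ i • Q = Q → 5 ∣ i := by
    intro i Q hQ h
    by_contra hi
    have hmem := mem_of_isPGroup_smul_eq P.2 (hxP i) h
    have hne : x ^ i ≠ 1 := fun h1 => hi (hox ▸ orderOf_dvd_of_pow_eq_one h1)
    have h1 : Nat.card ((P : Subgroup G) ⊓ Q : Subgroup G) = 1 := by
      have := hG.card_eq P hQ
      omega
    have := Subgroup.eq_bot_of_card_eq _ h1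
    exact hne (Subgroup.mem_bot.mp (this ▸ (Subgroup.mem_inf.mpr ⟨hxP i, hmem⟩)))
  set N : Subgroup G := Subgroup.normalizer ((P : Subgroup G) : Set G) with hN
  set C : Subgroup G := Subgroup.centralizer ((P : Subgroup G) : Set G) with hC
  have hNfix : ∀ g, g ∈ N ↔ g • P = P := fun g => Sylow.smul_eq_iff_mem_normalizer.symm
  have hCx : ∀ g, g ∈ C ↔ g * x = x * g := by
    intro g
    refine ⟨fun h => (Subgroup.mem_centralizer_iff.mp h x x₀.2).symm, fun h => ?_⟩
    refine Subgroup.mem_centralizer_iff.mpr fun y hy => ?_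
    obtain ⟨i, -, rfl⟩ := hPz y hy
    exact ((show Commute g x from h).pow_right i).eq.symm
  have hNindex : N.index = 21 := by
    rw [hN, P.coe_coe, ← P.card_eq_index_normalizer, hG.card_sylow]
  -- the action of `N` on `P`
  set ε := Subgroup.normalizerMonoidHom (P : Subgroup G) with hε
  have hεker : ∀ g : N, ε g = 1 ↔ (g : G) ∈ C := by
    intro g
    rw [← MonoidHom.mem_ker, hε, Subgroup.normalizerMonoidHom_ker, Subgroup.mem_subgroupOf]
  let e : MulAut (P : Subgroup G) ≃* (ZMod (Nat.card (P : Subgroup G)))ˣ :=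
    (IsCyclic.mulAutMulEquiv (P : Subgroup G))
  have hA : Nat.card (ZMod (Nat.card (P : Subgroup G)))ˣ = 4 := by
    rw [hP, Nat.card_eq_fintype_card, ZMod.card_units]
  -- Burnside: some element of a Sylow 2-subgroup of `N` acts nontrivially
  have hNC : ¬ N ≤ C := by
    intro hle
    set K := (MonoidHom.transferSylow P hle).ker with hK
    have hKc := MonoidHom.ker_transferSylow_isComplement' P hle
    have hK5 : ¬ 5 ∣ Nat.card K := MonoidHom.not_dvd_card_ker_transferSylow P hle
    have htop : (P : Subgroup G) ⊔ K = ⊤ := by rw [sup_comm]; exact hKc.sup_eq_top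
    haveI : Fact (Nat.Prime 3) := ⟨Nat.prime_three⟩
    have hmod := rpart_card_sylow_mod (r := 3) P K hK5 htop
    rw [hG.card_sylow] at hmod
    have h3 : (21 : ℕ).factorization 3 = 1 := by
      rw [show (21 : ℕ) = 3 * 7 by norm_num, Nat.factorization_mul (by norm_num) (by norm_num),
        Finsupp.add_apply, Nat.prime_three.factorization_self,
        Nat.factorization_eq_zero_of_not_dvd (by norm_num : ¬ 3 ∣ 7)]
    rw [h3] at hmod
    norm_num at hmod
  haveI : Fact (Nat.Prime 2) := ⟨Nat.prime_two⟩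
  obtain ⟨S₀⟩ : Nonempty (Sylow 2 N) := inferInstance
  set S : Subgroup G := (S₀ : Subgroup N).map N.subtype with hS
  have hSN : S ≤ N := Subgroup.map_subtype_le _
  have hS2 : IsPGroup 2 S := S₀.2.map _
  have hSindex : ¬ 2 ∣ S.index := by
    rw [hS, Subgroup.index_map_subtype]
    exact Nat.prime_two.not_dvd_mul S₀.not_dvd_index (by rw [hNindex]; norm_num)
  have hSC : ¬ S ≤ C := by
    intro hle
    have h1 : (S₀ : Subgroup N) ≤ ε.ker := fun g hg =>
      (MonoidHom.mem_ker).mpr ((hεker g).mpr (hle ⟨g, hg, rfl⟩))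
    have h2 : ¬ 2 ∣ ε.ker.index := fun h => S₀.not_dvd_index (h.trans (Subgroup.index_dvd_of_le h1))
    have h3 : ε.ker.index ∣ 4 := by
      rw [Subgroup.index_ker]
      refine (Subgroup.card_subgroup_dvd_card ε.range).trans ?_
      rw [Nat.card_congr e.toEquiv, hA]
    have h4 : ε.ker.index = 1 := by
      have h5 : ε.ker.index ≤ 4 := Nat.le_of_dvd (by norm_num) h3
      interval_cases h6 : ε.ker.index <;> omega
    exact hNC fun g hg => (hεker ⟨g, hg⟩).mp
      (MonoidHom.mem_ker.mp ((Subgroup.index_eq_one.mp h4).symm ▸ Subgroup.mem_top _))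
  have hodd : Odd S.index := Nat.odd_iff.mpr (Nat.two_dvd_ne_zero.mp hSindex)
  haveI : S.FiniteIndex := inferInstance
  -- an involution of `N` centralizes or inverts `x`
  have hinv : ∀ s ∈ N, s * s = 1 → s ∈ C ∨ s * x * s⁻¹ = x⁻¹ := by
    intro s hs hss
    obtain ⟨i, hi, he⟩ := hPz (s * x * s⁻¹) ((Subgroup.mem_normalizer_iff.mp hs x).mp x₀.2)
    have h2 : x = x ^ (i * i) := by
      have h3 : s * (s * x * s⁻¹) * s⁻¹ = x := by
        have h4 : s⁻¹ = s := inv_eq_of_mul_eq_one_right hss
        rw [h4]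
        calc s * (s * x * s) * s = (s * s) * x * (s * s) := by group
          _ = x := by rw [hss, one_mul, mul_one]
      rw [he] at h3
      rw [pow_mul, ← he, conj_pow, h3]
    have h5 : 1 % 5 = i * i % 5 := by
      have := pow_eq_pow_iff_modEq.mp (show x ^ 1 = x ^ (i * i) by rw [pow_one]; exact h2)
      rwa [hox] at this
    have h6 : ∀ i < 5, 1 % 5 = i * i % 5 → i = 1 ∨ i = 4 := by decide
    rcases h6 i hi h5 with rfl | rfl
    · refine Or.inl ((hCx s).mpr ?_)
      rw [pow_one] at he
      exact mul_inv_eq_iff_eq_mul.mp he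
    · refine Or.inr (he.trans (eq_inv_of_mul_eq_one_left ?_))
      rw [← pow_succ, hx5]
  -- the involutions fixing a second point invert `x` and stabilise every orbit of `x`
  have hbad : ∀ s ∈ N, s * s = 1 → s ≠ 1 → (∃ Q, Q ≠ P ∧ s • Q = Q) →
      s * x * s⁻¹ = x⁻¹ ∧ ∀ Q, Q ≠ P → ∃ j : ℕ, s • Q = x ^ j • Q := by
    intro s hs hss hs1 hex
    have hdvd := hG.four_dvd_moved hss hs1
    have h2 : 1 < Nat.card {Q : Sylow 5 G // s • Q = Q} := by
      obtain ⟨Q, hQ, hfix⟩ := hex
      haveI : Nontrivial {Q : Sylow 5 G // s • Q = Q} :=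
        ⟨⟨⟨Q, hfix⟩, ⟨P, (hNfix s).mp hs⟩, fun h => hQ (congrArg Subtype.val h)⟩⟩
      exact Finite.one_lt_card
    have h21 : Nat.card {Q : Sylow 5 G // s • Q = Q} ≤ 21 :=
      hG.card_sylow ▸ Finite.card_subtype_le _
    rcases hinv s hs hss with hc | hi
    · exfalso
      let F : SubMulAction (P : Subgroup G) (Sylow 5 G) :=
        { carrier := {Q | s • Q = Q}
          smul_mem' := fun y Q hQ => by
            show s • ((y : G) • Q) = (y : G) • Q
            rw [← mul_smul, ← Subgroup.mem_centralizer_iff.mp hc y y.2, mul_smul]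
            exact congrArg _ hQ }
      have hmod := P.2.card_modEq_card_fixedPoints F
      have hfixed : MulAction.fixedPoints (P : Subgroup G) F = {⟨P, (hNfix s).mp hs⟩} := by
        ext R
        simp only [MulAction.mem_fixedPoints, Set.mem_singleton_iff]
        constructor
        · intro h
          refine Subtype.ext (eq_of_forall_smul_eq fun y hy => ?_)
          exact congrArg Subtype.val (h ⟨y, hy⟩)
        · rintro rfl y
          exact Subtype.ext (hG.smul_self_of_mem y.2)
      rw [hfixed, Nat.card_coe_set_eq, Set.ncard_singleton] at hmod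
      have hF : Nat.card F = Nat.card {Q : Sylow 5 G // s • Q = Q} := rfl
      rw [hF, Nat.ModEq] at hmod
      have hall : Nat.card {Q : Sylow 5 G // s • Q = Q} = 21 := by omega
      refine hs1 (hG.faithful s fun Q => ?_)
      have hfull : {Q : Sylow 5 G | s • Q = Q} = Set.univ := by
        refine Set.eq_of_subset_of_ncard_le (Set.subset_univ _) ?_
        rw [Set.ncard_univ, hG.card_sylow, ← Nat.card_coe_set_eq]
        exact hall.ge
      exact Set.eq_univ_iff_forall.mp hfull Q
    · refine ⟨hi, ?_⟩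
      have hsx : ∀ i : ℕ, s * x ^ i = (x ^ i)⁻¹ * s := by
        intro i
        have h1 : (s * x * s⁻¹) ^ i = (x⁻¹) ^ i := by rw [hi]
        rw [conj_pow, inv_pow] at h1
        exact mul_inv_eq_iff_eq_mul.mp h1
      let F := {Q : Sylow 5 G // Q ≠ P ∧ s • Q = Q}
      let f : F × Fin 5 → {Q : Sylow 5 G // Q ≠ P} := fun v =>
        ⟨x ^ (v.2 : ℕ) • v.1.1, fun h => v.1.2.1 (by
          rw [← inv_smul_smul (x ^ (v.2 : ℕ)) v.1.1, h]
          exact hG.smul_self_of_mem ((P : Subgroup G).inv_mem (hxP _)))⟩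
      have hfinj : Function.Injective f := by
        rintro ⟨⟨Q, hQ, hQs⟩, i⟩ ⟨⟨R, hR, hRs⟩, k⟩ h
        have h1 : x ^ (i : ℕ) • Q = x ^ (k : ℕ) • R := congrArg Subtype.val h
        have h2 : (x ^ (i : ℕ))⁻¹ • Q = (x ^ (k : ℕ))⁻¹ • R := by
          have := congrArg (s • ·) h1
          simp only [← mul_smul, hsx] at this
          rwa [mul_smul, mul_smul, hQs, hRs] at this
        have h3 : x ^ (2 * (i : ℕ) + 3 * (k : ℕ)) • R = R := by
          have hQ' : Q = (x ^ (i : ℕ))⁻¹ • x ^ (k : ℕ) • R := by rw [← h1, inv_smul_smul]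
          rw [hQ', ← mul_smul, ← mul_smul] at h2
          have h4 : R = (x ^ (k : ℕ) * ((x ^ (i : ℕ))⁻¹ * (x ^ (i : ℕ))⁻¹ * x ^ (k : ℕ))) • R := by
            rw [mul_smul, h2, smul_inv_smul]
          have h5 : x ^ (k : ℕ) * ((x ^ (i : ℕ))⁻¹ * (x ^ (i : ℕ))⁻¹ * x ^ (k : ℕ)) =
              x ^ (3 * (i : ℕ) + 2 * (k : ℕ)) := by
            have h6 : (x ^ (i : ℕ))⁻¹ * (x ^ (i : ℕ))⁻¹ = x ^ (3 * (i : ℕ)) := by
              rw [← mul_inv_rev, inv_eq_iff_mul_eq_one, ← pow_add, ← pow_add,
                show (i : ℕ) + i + 3 * i = 5 * i by ring, pow_mul, hx5,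
                one_pow]
            rw [h6, ← pow_add, ← pow_add]
            congr 1
            ring
          rw [h5] at h4
          have h7 := hfree _ R hR h4.symm
          have h8 : (i : ℕ) = k := by omega
          rw [h8, show 2 * (k : ℕ) + 3 * k = 5 * k by ring, pow_mul, hx5,
            one_pow, one_smul]
        have hik : i = k := by
          have := hfree _ R hR h3
          exact Fin.ext (by omega)
        subst hik
        have : Q = R := smul_left_cancel _ h1
        subst this
        rfl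
      have hcardF : Nat.card F + 1 = Nat.card {Q : Sylow 5 G // s • Q = Q} := by
        have h1 : {Q : Sylow 5 G | s • Q = Q} = insert P {Q | Q ≠ P ∧ s • Q = Q} := by
          ext Q
          simp only [Set.mem_setOf_eq, Set.mem_insert_iff]
          constructor
          · intro h
            by_cases hQ : Q = P
            · exact Or.inl hQ
            · exact Or.inr ⟨hQ, h⟩
          · rintro (rfl | h)
            · exact (hNfix s).mp hs
            · exact h.2
        have h2 := congrArg Set.ncard h1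
        rw [Set.ncard_insert_of_notMem (fun h => h.1 rfl), ← Nat.card_coe_set_eq,
          ← Nat.card_coe_set_eq] at h2
        exact h2.symm
      have hne : Nat.card {Q : Sylow 5 G // Q ≠ P} = 20 := by
        rw [Nat.card_eq_fintype_card, Fintype.card_subtype_compl, Fintype.card_subtype_eq,
          ← Nat.card_eq_fintype_card, hG.card_sylow]
      have hle := Nat.card_le_card_of_injective f hfinj
      rw [Nat.card_prod, Nat.card_fin, hne] at hle
      have hF4 : Nat.card F = 4 := by omega
      have hsurj : Function.Surjective f := by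
        haveI : Fintype F := Fintype.ofFinite _
        exact ((Fintype.bijective_iff_injective_and_card f).mpr ⟨hfinj, by
          rw [← Nat.card_eq_fintype_card, ← Nat.card_eq_fintype_card, Nat.card_prod, Nat.card_fin,
            hF4, hne]⟩).2
      intro Q hQ
      obtain ⟨⟨⟨R, hR, hRs⟩, i⟩, hi'⟩ := hsurj ⟨Q, hQ⟩
      have hQR : x ^ (i : ℕ) • R = Q := congrArg Subtype.val hi'
      refine ⟨3 * (i : ℕ), ?_⟩
      rw [← hQR, ← mul_smul, hsx, mul_smul, hRs, ← mul_smul, ← pow_add]
      congr 1
      rw [inv_eq_iff_mul_eq_one, ← pow_add, show (i : ℕ) + (3 * i + i) = 5 * i by ring, pow_mul,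
        hx5, one_pow]
  -- an element of `S ∩ C` stabilising all orbits is trivial
  have hstab : ∀ c ∈ S, c ∈ C → (∀ Q, Q ≠ P → ∃ j : ℕ, c • Q = x ^ j • Q) → c = 1 := by
    intro c hcS hcC hall
    refine hG.faithful c fun Q => ?_
    by_cases hQ : Q = P
    · subst hQ
      exact (hNfix c).mp (hSN hcS)
    obtain ⟨j, hj⟩ := hall Q hQ
    obtain ⟨n, hn⟩ := hS2 ⟨c, hcS⟩
    have hcn : c ^ 2 ^ n = 1 := congrArg Subtype.val hn
    have hcomm : Commute c x := (hCx c).mp hcC
    have hpow : ∀ m : ℕ, c ^ m • Q = x ^ (j * m) • Q := by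
      intro m
      induction m with
      | zero => simp
      | succ m ih =>
        rw [pow_succ, mul_smul, hj, ← mul_smul, ((hcomm.pow_left m).pow_right j).eq, mul_smul, ih,
          ← mul_smul, ← pow_add]
        congr 2
        ring
    have h5 := hfree _ Q hQ (by rw [← hpow, hcn, one_smul])
    have h5j : 5 ∣ j := by
      rcases (Fact.out : Nat.Prime 5).dvd_mul.mp h5 with h | h
      · exact h
      · exact absurd ((Nat.prime_dvd_prime_iff_eq (by norm_num) Nat.prime_two).mp
          ((Fact.out : Nat.Prime 5).dvd_of_dvd_pow h)) (by norm_num)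
    obtain ⟨k, rfl⟩ := h5j
    rw [hj, pow_mul, hx5, one_pow, one_smul]
  have hinvmul : ∀ s t : G, s * x * s⁻¹ = x⁻¹ → t * x * t⁻¹ = x⁻¹ → s * t ∈ C := by
    intro s t hs ht
    refine (hCx _).mpr (mul_inv_eq_iff_eq_mul.mp ?_)
    calc s * t * x * (s * t)⁻¹ = s * (t * x * t⁻¹) * s⁻¹ := by group
      _ = (s * x * s⁻¹)⁻¹ := by rw [ht]; group
      _ = x := by rw [hs, inv_inv]
  have hconj : ∀ (z g : G), z * z = 1 → g⁻¹ * z * g * (g⁻¹ * z * g) = 1 := fun z g h => by
    calc g⁻¹ * z * g * (g⁻¹ * z * g) = g⁻¹ * (z * z) * g := by group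
      _ = 1 := by rw [h, mul_one, inv_mul_cancel]
  have hconj1 : ∀ (z g : G), z ≠ 1 → g⁻¹ * z * g ≠ 1 := fun z g hz h => hz (by
    have : z = g * (g⁻¹ * z * g) * g⁻¹ := by group
    rw [this, h, mul_one, mul_inv_cancel])
  by_cases hA' : ∃ s ∈ S, s * s = 1 ∧ s ≠ 1 ∧ ∃ Q, Q ≠ P ∧ s • Q = Q
  · -- an involution of `S` with a second fixed point is the only one
    obtain ⟨s, hsS, hss, hs1, hsQ⟩ := hA'
    obtain ⟨hsx, hsall⟩ := hbad s (hSN hsS) hss hs1 hsQ
    have hsfix2 : ∀ g : G, ∃ R, R ≠ P ∧ (g⁻¹ * s * g) • R = R := by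
      intro g
      obtain ⟨Q, hQ, hQs⟩ := hsQ
      have hR : ∀ T : Sylow 5 G, s • T = T → (g⁻¹ * s * g) • (g⁻¹ • T) = g⁻¹ • T := fun T hT => by
        rw [mul_smul, smul_inv_smul, mul_smul, hT]
      by_cases h : g⁻¹ • Q = P
      · refine ⟨g⁻¹ • P, fun h' => hQ ?_, hR P ((hNfix s).mp (hSN hsS))⟩
        exact smul_left_cancel g⁻¹ (h.trans h'.symm)
      · exact ⟨g⁻¹ • Q, h, hR Q hQs⟩
    let φ : S →* (ZMod (Nat.card (P : Subgroup G)))ˣ :=
      e.toMonoidHom.comp (ε.comp (Subgroup.inclusion hSN))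
    have h := hG.transfer_kill hodd φ hA.dvd s hsS hss (fun g hg => ?_)
    · have hsC : s ∈ C := by
        refine (hεker ⟨s, hSN hsS⟩).mp ?_
        exact e.map_eq_one_iff.mp h
      have : x⁻¹ = x := by rw [← hsx, ((hCx s).mp hsC), mul_inv_cancel_right]
      have h2 : x ^ 2 = 1 := by rw [pow_two]; nth_rw 1 [← this]; exact inv_mul_cancel x
      have := hox ▸ orderOf_dvd_of_pow_eq_one h2
      omega
    · obtain ⟨htx, htall⟩ := hbad _ (hSN hg) (hconj s g hss) (hconj1 s g hs1) (hsfix2 g)
      set t := g⁻¹ * s * g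
      have hts : t * s = 1 := by
        refine hstab _ (mul_mem hg hsS) (hinvmul t s htx hsx) fun Q hQ => ?_
        obtain ⟨j, hj⟩ := hsall Q hQ
        have hQ' : x ^ j • Q ≠ P := fun h => hQ (by
          rw [← inv_smul_smul (x ^ j) Q, h]
          exact hG.smul_self_of_mem ((P : Subgroup G).inv_mem (hxP _)))
        obtain ⟨k, hk⟩ := htall _ hQ'
        exact ⟨k + j, by rw [mul_smul, hj, hk, ← mul_smul, ← pow_add]⟩
      exact (eq_inv_of_mul_eq_one_left hts).trans (inv_eq_of_mul_eq_one_right hss)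
  · -- otherwise `S` is semiregular on the twenty other points
    push Not at hA'
    have honly : ∀ s ∈ S, s ≠ 1 → ∀ Q, s • Q = Q → Q = P := by
      intro s hsS hs1 Q hfix
      by_contra hQ
      obtain ⟨n, hn⟩ := hS2 ⟨s, hsS⟩
      have hn' : s ^ 2 ^ n = 1 := congrArg Subtype.val hn
      obtain ⟨k, hk1, hk⟩ := (Nat.dvd_prime_pow Nat.prime_two).mp (orderOf_dvd_of_pow_eq_one hn')
      have hk0 : k ≠ 0 := fun h => hs1 (orderOf_eq_one_iff.mp (by rw [hk, h, pow_zero]))
      have hfixpow : ∀ m : ℕ, s ^ m • Q = Q := by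
        intro m
        induction m with
        | zero => simp
        | succ m ih => rw [pow_succ, mul_smul, hfix, ih]
      refine hA' (s ^ 2 ^ (k - 1)) (pow_mem hsS _) ?_ ?_ Q hQ (hfixpow _)
      · rw [← pow_add, ← two_mul, ← pow_succ', show k - 1 + 1 = k by omega, ← hk, pow_orderOf_eq_one]
      · intro h
        have := Nat.le_of_dvd (by positivity) (orderOf_dvd_of_pow_eq_one h)
        rw [hk] at this
        have := Nat.pow_le_pow_iff_right (le_refl 2) |>.mp this
        omega
    have hS4 : Nat.card S ∣ 4 := by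
      let T : SubMulAction S (Sylow 5 G) :=
        { carrier := {Q | Q ≠ P}
          smul_mem' := fun s Q hQ h => hQ (by
            have h1 : (s : G) • Q = P := h
            rw [← inv_smul_smul (s : G) Q, h1]
            exact (hNfix _).mp (N.inv_mem (hSN s.2))) }
      have hT : Nat.card T = 20 := by
        show Nat.card {Q : Sylow 5 G // Q ≠ P} = 20
        rw [Nat.card_eq_fintype_card, Fintype.card_subtype_compl, Fintype.card_subtype_eq,
          ← Nat.card_eq_fintype_card, hG.card_sylow]
      have hd : Nat.card S ∣ Nat.card T := by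
        rw [Nat.card_congr (MulAction.selfEquivSigmaOrbitsQuotientStabilizer S T), Nat.card_sigma]
        refine Finset.dvd_sum fun ω _ => ?_
        have hbot : MulAction.stabilizer S ω.out = ⊥ := by
          rw [eq_bot_iff]
          intro s hs
          refine Subgroup.mem_bot.mpr (Subtype.ext ?_)
          by_contra h1
          exact ω.out.2 (honly s s.2 h1 _ (congrArg Subtype.val hs))
        rw [hbot]
        exact (Nat.card_congr (QuotientGroup.quotientBot (G := S)).toEquiv).symm.dvd
      obtain ⟨k, hk⟩ := IsPGroup.iff_card.mp hS2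
      rw [hT, hk] at hd
      rw [hk]
      have : k ≤ 2 := by
        by_contra hk2
        have := (pow_dvd_pow 2 (show 3 ≤ k by omega)).trans hd
        omega
      exact pow_dvd_pow 2 this
    haveI hcom : IsMulCommutative S := by
      obtain ⟨k, hk1, hk⟩ := (Nat.dvd_prime_pow Nat.prime_two).mp (show Nat.card S ∣ 2 ^ 2 from hS4)
      interval_cases k
      · haveI := (Nat.card_eq_one_iff_unique.mp (show Nat.card S = 1 by rw [hk, pow_zero])).1
        exact ⟨⟨fun a b => Subsingleton.elim _ _⟩⟩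
      · haveI := isCyclic_of_prime_card (α := S) (p := 2) (by simpa using hk)
        exact ⟨⟨fun a b => IsCyclic.commGroup.mul_comm a b⟩⟩
      · exact IsPGroup.isMulCommutative_of_card_eq_prime_sq hk
    letI : CommGroup S := { (inferInstance : Group S) with mul_comm := hcom.is_comm.comm }
    -- it suffices to find an involution with no other conjugate in `S`
    suffices h : ∃ z ∈ S, z * z = 1 ∧ z ≠ 1 ∧ ∀ g : G, g⁻¹ * z * g ∈ S → g⁻¹ * z * g = z by
      obtain ⟨z, hz, hzz, hz1, huniq⟩ := h
      exact hz1 (congrArg Subtype.val (hG.transfer_kill hodd (MonoidHom.id S) hS4 z hz hzz huniq))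
    by_cases hT : ∃ z ∈ S, z ∈ C ∧ z ≠ 1
    · -- the centralizer of `x` in `S` has order 2
      obtain ⟨z, hzS, hzC, hz1⟩ := hT
      have hTcard : Nat.card (C.subgroupOf S) ≤ 2 := by
        have hne : C.subgroupOf S ≠ ⊤ := fun h => hSC (Subgroup.subgroupOf_eq_top.mp h)
        have h1 := Subgroup.card_mul_index (C.subgroupOf S)
        have h2 : 1 < (C.subgroupOf S).index := by
          rcases Nat.lt_or_ge 1 (C.subgroupOf S).index with h | h
          · exact h
          · exfalso
            have h0 : (C.subgroupOf S).index ≠ 0 := Subgroup.index_ne_zero_of_finite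
            exact hne (Subgroup.index_eq_one.mp (by omega))
        have h3 := Nat.le_of_dvd (by norm_num) hS4
        nlinarith
      have honlyz : ∀ t ∈ S, t ∈ C → t ≠ 1 → t = z := by
        intro t ht htC ht1
        by_contra hne
        have h3 : ({(1 : C.subgroupOf S), ⟨⟨z, hzS⟩, hzC⟩, ⟨⟨t, ht⟩, htC⟩} :
            Finset (C.subgroupOf S)).card = 3 := by
          rw [Finset.card_eq_three]
          refine ⟨_, _, _, ?_, ?_, ?_, rfl⟩
          · exact fun h => hz1 (congrArg (fun u : C.subgroupOf S => ((u : S) : G)) h).symm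
          · exact fun h => ht1 (congrArg (fun u : C.subgroupOf S => ((u : S) : G)) h).symm
          · exact fun h => hne (congrArg (fun u : C.subgroupOf S => ((u : S) : G)) h).symm
        haveI : Fintype (C.subgroupOf S) := Fintype.ofFinite _
        have := Finset.card_le_univ ({(1 : C.subgroupOf S), ⟨⟨z, hzS⟩, hzC⟩, ⟨⟨t, ht⟩, htC⟩} :
            Finset (C.subgroupOf S))
        rw [h3, ← Nat.card_eq_fintype_card] at this
        omega
      have hzz : z * z = 1 := by
        by_contra h
        have h1 := honlyz _ (mul_mem hzS hzS) (mul_mem hzC hzC) h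
        exact hz1 (mul_eq_left.mp h1)
      refine ⟨z, hzS, hzz, hz1, fun g hg => honlyz _ hg ?_ (hconj1 z g hz1)⟩
      have hgN : g ∈ N := by
        have h1 : (g⁻¹ * z * g) • (g⁻¹ • P) = g⁻¹ • P := by
          rw [mul_smul, smul_inv_smul, mul_smul, (hNfix z).mp (hSN hzS)]
        have h2 := honly _ hg (hconj1 z g hz1) _ h1
        exact inv_mem_iff.mp ((hNfix _).mpr h2)
      refine (hεker ⟨_, hSN hg⟩).mp ?_
      have : (⟨g⁻¹ * z * g, hSN hg⟩ : N) =
          (⟨g, hgN⟩ : N)⁻¹ * ⟨z, hSN hzS⟩ * ⟨g, hgN⟩ := rfl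
      rw [this, map_mul, map_mul, map_inv, (hεker ⟨z, hSN hzS⟩).mpr hzC, mul_one, inv_mul_cancel]
    · push Not at hT
      have hS1 : Nat.card S ≠ 1 := fun h => hSC (by
        rw [Subgroup.eq_bot_of_card_eq S h]; exact bot_le)
      obtain ⟨k, hk⟩ := IsPGroup.iff_card.mp hS2
      have h2 : 2 ∣ Nat.card S := by
        rw [hk] at hS1 ⊢
        exact dvd_pow_self 2 fun h => hS1 (by rw [h, pow_zero])
      obtain ⟨z, hz⟩ := exists_prime_orderOf_dvd_card' 2 h2
      have hz1 : (z : G) ≠ 1 := fun h => by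
        rw [show z = 1 from Subtype.ext h, orderOf_one] at hz
        omega
      have hzz : (z : G) * z = 1 := by
        rw [← pow_two, ← hz, ← Subgroup.orderOf_coe, pow_orderOf_eq_one]
      refine ⟨z, z.2, hzz, hz1, fun g hg => ?_⟩
      set t := g⁻¹ * (z : G) * g
      have hz' : (z : G) * x * (z : G)⁻¹ = x⁻¹ :=
        (hinv _ (hSN z.2) hzz).resolve_left fun h => hz1 (hT _ z.2 h)
      have ht' : t * x * t⁻¹ = x⁻¹ :=
        (hinv _ (hSN hg) (hconj _ g hzz)).resolve_left fun h => hconj1 _ g hz1 (hT _ hg h)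
      exact (eq_inv_of_mul_eq_one_left (hT _ (mul_mem hg z.2) (hinvmul t z ht' hz'))).trans
        (inv_eq_of_mul_eq_one_right hzz)

end

/-- No finite group has exactly twenty-one Sylow `5`-subgroups. -/
theorem card_sylow_five_ne_twentyone (G : Type u) [Group G] [Finite G] :
    Nat.card (Sylow 5 G) ≠ 21 := by
  haveI : Fact (Nat.Prime 5) := ⟨by norm_num⟩
  suffices ∀ (k : ℕ) (G : Type u) [Group G] [Finite G], Nat.card G = k →
      Nat.card (Sylow 5 G) ≠ 21 from this _ G rfl
  clear * -
  intro k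
  induction k using Nat.strong_induction_on with
  | _ k ih =>
    intro G _ _ hk hn
    refine reduced21_false (G := G) ⟨hn, fun g hg => ?_, fun M hM hidx => ?_⟩
    · by_contra hg1
      set K := (MulAction.toPermHom G (Sylow 5 G)).ker with hK
      have hgK : g ∈ K := Equiv.ext hg
      have hKne : K ≠ ⊥ := fun h => hg1 (Subgroup.mem_bot.mp (h ▸ hgK))
      have hKN : K ≤ Subgroup.normalizer ((default : Sylow 5 G) : Set G) := fun y hy =>
        Sylow.smul_eq_iff_mem_normalizer.mp
          (show MulAction.toPermHom G (Sylow 5 G) y default = default by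
            rw [MonoidHom.mem_ker.mp hy]; rfl)
      have hlt : Nat.card (G ⧸ K) < k := by
        have e := Subgroup.card_eq_card_quotient_mul_card_subgroup K
        have h1 : 1 < Nat.card K := (Subgroup.one_lt_card_iff_ne_bot K).mpr hKne
        have h2 : 0 < Nat.card (G ⧸ K) := Nat.card_pos
        nlinarith
      exact ih _ hlt (G ⧸ K) rfl ((card_sylow_quotient_of_le_normalizer K default hKN).trans hn)
    · by_contra hMne
      haveI := hM
      have hlt : Nat.card M < k := hk ▸ lt_of_le_of_ne (Subgroup.card_le_card_group M)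
        (fun e => hMne ((Subgroup.card_eq_iff_eq_top M).mp e))
      exact ih _ hlt M rfl ((card_sylow_eq_of_not_dvd_index M hidx).trans hn)

end CfsgLib.SylowNumber
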