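import Mathlib
import Cfsg.Agent.Lib.SylowNumber.TwoMulAddOne

/-!
Orders of reduced configurations with `2 p + 1` Sylow subgroups, and the reduction to them.
-/

namespace CfsgLib.SylowNumber

open scoped Pointwise

set_option linter.style.haveILetI false

universe u

namespace Reduced

variable {G : Type*} [Group G] [Finite G] {p : ℕ} [Fact p.Prime] (hG : Reduced G p)
include hG

theorem exists_card_eq : ∃ k, Odd k ∧ k ∣ p - 1 ∧ Nat.card G = (2 * p + 1) * (p * k) := by
  obtain ⟨P⟩ : Nonempty (Sylow p G) := inferInstance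
  have hP := hG.card_sylow_subgroup P
  haveI : IsCyclic (P : Subgroup G) := isCyclic_of_prime_card hP
  set N : Subgroup G := Subgroup.normalizer ((P : Subgroup G) : Set G) with hN
  set f := Subgroup.normalizerMonoidHom (P : Subgroup G) with hf
  have hPN : (P : Subgroup G) ≤ N := Subgroup.le_normalizer
  have hker : f.ker = (P : Subgroup G).subgroupOf N := by
    rw [hf, Subgroup.normalizerMonoidHom_ker]
    refine congrArg (fun H : Subgroup G => H.subgroupOf N) (le_antisymm (hG.centralizer_le P) ?_)
    intro y hy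
    refine Subgroup.mem_centralizer_iff.mpr fun z hz => ?_
    exact congrArg Subtype.val (IsCyclic.commGroup.mul_comm (⟨z, hz⟩ : (P : Subgroup G)) ⟨y, hy⟩)
  have hkercard : Nat.card f.ker = p := by
    rw [hker, Nat.card_congr (Subgroup.subgroupOfEquivOfLe hPN).toEquiv, hP]
  set k := Nat.card f.range with hk
  have hkdvd : k ∣ p - 1 := by
    have h := Subgroup.card_subgroup_dvd_card f.range
    rwa [IsCyclic.card_mulAut, hP, Nat.totient_prime Fact.out] at h
  have hNcard : Nat.card N = p * k := by
    rw [← Subgroup.card_mul_index f.ker, Subgroup.index_ker, hkercard]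
  have hGcard : Nat.card G = (2 * p + 1) * (p * k) := by
    rw [← Subgroup.index_mul_card N, hN, P.coe_coe, ← P.card_eq_index_normalizer, hG.card_sylow,
      ← P.coe_coe, ← hN, hNcard]
  refine ⟨k, ?_, hkdvd, hGcard⟩
  by_contra hodd
  rw [Nat.not_odd_iff_even, even_iff_two_dvd] at hodd
  haveI : Fact (Nat.Prime 2) := ⟨Nat.prime_two⟩
  obtain ⟨S⟩ : Nonempty (Sylow 2 N) := inferInstance
  have hindex : ¬ 2 ∣ ((S : Subgroup N).map N.subtype).index := by
    rw [Subgroup.index_map_subtype]
    refine Nat.prime_two.not_dvd_mul S.not_dvd_index ?_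
    rw [hN, P.coe_coe, ← P.card_eq_index_normalizer, hG.card_sylow]
    omega
  let S₁ : Sylow 2 G := (S.2.map N.subtype).toSylow hindex
  haveI : IsCyclic (MulAut (P : Subgroup G)) := by
    haveI : IsCyclic (ZMod (Nat.card (P : Subgroup G)))ˣ := by
      rw [hP]; exact ZMod.isCyclic_units_prime Fact.out
    exact isCyclic_of_surjective (IsCyclic.mulAutMulEquiv (P : Subgroup G)).symm.toMonoidHom
      (IsCyclic.mulAutMulEquiv (P : Subgroup G)).symm.surjective
  have hinj : Function.Injective (f.comp (S : Subgroup N).subtype) := by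
    rw [← MonoidHom.ker_eq_bot_iff, eq_bot_iff]
    intro x hx
    have h1 : (x : N) ∈ f.ker := hx
    obtain ⟨n, hn⟩ := IsPGroup.iff_card.mp S.2
    have h2 : orderOf (x : N) ∣ 2 ^ n := hn ▸ Subgroup.orderOf_dvd_natCard _ x.2
    have h3 : orderOf (x : N) ∣ p := hkercard ▸ Subgroup.orderOf_dvd_natCard _ h1
    have hcop : Nat.Coprime (2 ^ n) p := ((Nat.coprime_primes Nat.prime_two Fact.out).mpr
      (by have := hG.two_lt; omega)).pow_left n
    exact Subgroup.mem_bot.mpr (Subtype.ext (orderOf_eq_one_iff.mp (Nat.eq_one_of_dvd_coprimes hcop h2 h3)))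
  haveI hScyc : IsCyclic (S : Subgroup N) := isCyclic_of_injective _ hinj
  have hS₁cyc : IsCyclic S₁ := by
    show IsCyclic ((S : Subgroup N).map N.subtype)
    exact isCyclic_of_surjective
      ((S : Subgroup N).equivMapOfInjective N.subtype N.subtype_injective).toMonoidHom
      ((S : Subgroup N).equivMapOfInjective N.subtype N.subtype_injective).surjective
  have h2G : 2 ∣ Nat.card G := hGcard ▸ Dvd.dvd.mul_left (hodd.mul_left p) _
  have hcompl := IsCyclic.isComplement' ((Nat.minFac_eq_two_iff _).mpr h2G) hS₁cyc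
  set K := (MonoidHom.transferSylow S₁ (IsCyclic.normalizer_le_centralizer
    ((Nat.minFac_eq_two_iff _).mpr h2G) hS₁cyc)).ker
  have hK : K.index = Nat.card S₁ := hcompl.symm.index_eq_card
  have hKtop : K = ⊤ := by
    refine hG.eq_top K (MonoidHom.normal_ker _) fun h => ?_
    obtain ⟨n, hn⟩ := IsPGroup.iff_card.mp S₁.2
    rw [hK, hn] at h
    have := (Nat.prime_dvd_prime_iff_eq Fact.out Nat.prime_two).mp ((Fact.out : p.Prime).dvd_of_dvd_pow h)
    have := hG.two_lt
    omega
  rw [hKtop, Subgroup.index_top] at hK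
  have h1 : 2 ∣ Nat.card S₁ := S₁.dvd_card_of_dvd_card h2G
  rw [← hK] at h1
  exact absurd h1 (by norm_num)

/-- Excluding an order by an auxiliary prime `r < p` dividing it exactly once. -/
theorem false_of_prime {r m : ℕ} (hr : r.Prime) (hcard : Nat.card G = r * m) (hrm : ¬ r ∣ m)
    (hrp : r < p)
    (hnorm : ∀ d, d ∣ m / p → d % p = 1 → d = 1)
    (hburn : ∀ d, d ∣ m → d % r = 1 → d = 1 ∨ Nat.gcd (m / d) (r - 1) = 1) : False := by
  haveI : Fact r.Prime := ⟨hr⟩
  obtain ⟨R⟩ : Nonempty (Sylow r G) := inferInstance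
  obtain ⟨P⟩ : Nonempty (Sylow p G) := inferInstance
  have hm : m ≠ 0 := fun h => hrm (h ▸ dvd_zero r)
  have hRcard : Nat.card (R : Subgroup G) = r := by
    rw [Sylow.card_eq_multiplicity, hcard, Nat.factorization_mul hr.ne_zero hm, Finsupp.add_apply,
      Nat.factorization_eq_zero_of_not_dvd hrm, hr.factorization_self, add_zero, pow_one]
  have hRindex : (R : Subgroup G).index = m := by
    have := Subgroup.card_mul_index (R : Subgroup G)
    rw [hRcard, hcard] at this
    exact Nat.eq_of_mul_eq_mul_left hr.pos this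
  set N : Subgroup G := Subgroup.normalizer ((R : Subgroup G) : Set G) with hN
  have hd1 : Nat.card (Sylow r G) ∣ m := hRindex ▸ R.card_dvd_index
  have hd2 : Nat.card (Sylow r G) % r = 1 := Eq.trans (card_sylow_modEq_one r G) (Nat.one_mod_eq_one.mpr hr.ne_one)
  have hP := hG.card_sylow_subgroup P
  by_cases hd : Nat.card (Sylow r G) = 1
  · -- the Sylow `r`-subgroup is normal
    haveI : (R : Subgroup G).Normal := by
      rw [← Subgroup.normalizer_eq_top_iff, ← Subgroup.index_eq_one, R.coe_coe,
        ← R.card_eq_index_normalizer]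
      exact hd
    have hne : p ≠ r := hrp.ne'
    have hinf : (P : Subgroup G) ⊓ R = ⊥ :=
      disjoint_iff.mp (Subgroup.disjoint_of_coprime_natCard (by rw [hP, hRcard]; exact (Nat.coprime_primes Fact.out hr).mpr hne))
    have hsupindex : (P : Subgroup G).relIndex ((P : Subgroup G) ⊔ R) = r := by
      have e2 : (R : Subgroup G).relIndex ((P : Subgroup G) ⊔ R) = p := by
        rw [Subgroup.relIndex_sup_right, ← Subgroup.inf_relIndex_right, inf_comm, hinf,
          Subgroup.relIndex_bot_left, hP]
      have a := Subgroup.relIndex_mul_relIndex ⊥ (P : Subgroup G) ((P : Subgroup G) ⊔ R) bot_le le_sup_left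
      have b := Subgroup.relIndex_mul_relIndex ⊥ (R : Subgroup G) ((P : Subgroup G) ⊔ R) bot_le le_sup_right
      simp only [Subgroup.relIndex_bot_left, hP, hRcard, e2] at a b
      rw [← b, mul_comm r p] at a
      exact Nat.eq_of_mul_eq_mul_left (Fact.out : p.Prime).pos a
    have h1 : Nat.card (Sylow p ((P : Subgroup G) ⊔ R : Subgroup G)) = 1 := by
      have hd' : Nat.card (Sylow p ((P : Subgroup G) ⊔ R : Subgroup G)) ∣ r := by
        have := (P.subtype (le_sup_left : (P : Subgroup G) ≤ ↑P ⊔ ↑R)).card_dvd_index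
        rw [Sylow.coe_subtype] at this
        exact this.trans (dvd_of_eq hsupindex)
      rcases (Nat.dvd_prime hr).mp hd' with h | h
      · exact h
      · have h' : r % p = 1 % p := h ▸ card_sylow_modEq_one p _
        rw [Nat.mod_eq_of_lt hrp, Nat.one_mod_eq_one.mpr (Fact.out : p.Prime).ne_one] at h'
        exact h.trans h'
    have hmul := card_sylow_eq_quotient_mul (R : Subgroup G) P
    rw [h1, mul_one, hG.card_sylow] at hmul
    have hquot : Nat.card (G ⧸ (R : Subgroup G)) = m := hRindex
    obtain ⟨P'⟩ : Nonempty (Sylow p (G ⧸ (R : Subgroup G))) := inferInstance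
    have hP' : Nat.card (P' : Subgroup (G ⧸ (R : Subgroup G))) = p := by
      obtain ⟨Q, hQ⟩ := Sylow.mapSurjective_surjective (QuotientGroup.mk'_surjective (R : Subgroup G)) p P'
      have hQcard := hG.card_sylow_subgroup Q
      have hdvd : Nat.card (P' : Subgroup (G ⧸ (R : Subgroup G))) ∣ p := by
        rw [← hQ, Sylow.coe_mapSurjective]
        exact (Subgroup.card_map_dvd (Q : Subgroup G) (QuotientGroup.mk' (R : Subgroup G))).trans hQcard.dvd
      refine (((Nat.dvd_prime Fact.out).mp hdvd).resolve_left fun h => ?_)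
      have hp : p ∣ Nat.card (G ⧸ (R : Subgroup G)) := by
        rw [hquot]
        have : p ∣ r * m := hcard ▸ hP ▸ Subgroup.card_subgroup_dvd_card _
        exact ((Fact.out : p.Prime).dvd_mul.mp this).resolve_left
          fun h => hne ((Nat.prime_dvd_prime_iff_eq Fact.out hr).mp h)
      have := P'.dvd_card_of_dvd_card hp
      rw [h] at this
      exact (Fact.out : p.Prime).not_dvd_one this
    have hdiv : Nat.card (Sylow p (G ⧸ (R : Subgroup G))) ∣ m / p := by
      have := P'.card_dvd_index
      have e := Subgroup.card_mul_index (P' : Subgroup (G ⧸ (R : Subgroup G)))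
      rw [hP', hquot] at e
      rw [← e, Nat.mul_div_cancel_left _ (Fact.out : p.Prime).pos]
      exact this
    have := hnorm _ hdiv (Eq.trans (card_sylow_modEq_one p _)
      (Nat.one_mod_eq_one.mpr (Fact.out : p.Prime).ne_one))
    rw [this] at hmul
    have := (Fact.out : p.Prime).pos
    omega
  · have hgcd := (hburn _ hd1 hd2).resolve_left hd
    have hNindex : N.index = Nat.card (Sylow r G) := by
      rw [hN, R.coe_coe, ← R.card_eq_index_normalizer]
    have hNcard : Nat.card N = r * (m / Nat.card (Sylow r G)) := by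
      have e := Subgroup.card_mul_index N
      rw [hNindex, hcard] at e
      rw [← Nat.mul_div_assoc _ hd1, ← e, Nat.mul_div_cancel _ Nat.card_pos]
    haveI : IsCyclic (R : Subgroup G) := isCyclic_of_prime_card hRcard
    set f := Subgroup.normalizerMonoidHom (R : Subgroup G)
    have hrange : Nat.card f.range = 1 := by
      have h1 : Nat.card f.range ∣ r * (m / Nat.card (Sylow r G)) := hNcard ▸ Subgroup.card_range_dvd f
      have h2 : Nat.card f.range ∣ r - 1 := by
        have h := Subgroup.card_subgroup_dvd_card f.range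
        rwa [IsCyclic.card_mulAut, hRcard, Nat.totient_prime hr] at h
      refine Nat.eq_one_of_dvd_coprimes ?_ h1 h2
      refine Nat.Coprime.mul_left ?_ hgcd
      exact (hr.coprime_iff_not_dvd).mpr fun h => by
        have := hr.two_le
        have := Nat.le_of_dvd (by omega) h
        omega
    have hcent : Subgroup.normalizer ((R : Subgroup G) : Set G) ≤ Subgroup.centralizer ((R : Subgroup G) : Set G) := by
      intro x hx
      have : (⟨x, hx⟩ : N) ∈ f.ker := by
        rw [MonoidHom.mem_ker]
        haveI := (Nat.card_eq_one_iff_unique.mp hrange).1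
        exact congrArg Subtype.val (Subsingleton.elim (⟨f ⟨x, hx⟩, _, rfl⟩ : f.range) 1)
      rw [Subgroup.normalizerMonoidHom_ker] at this
      exact this
    set K := (MonoidHom.transferSylow R hcent).ker
    have hK : K.index = r := (MonoidHom.ker_transferSylow_isComplement' R hcent).symm.index_eq_card.trans hRcard
    have hKtop : K = ⊤ := hG.eq_top K (MonoidHom.normal_ker _) fun h => by
      rw [hK] at h
      exact hrp.ne' ((Nat.prime_dvd_prime_iff_eq Fact.out hr).mp h)
    rw [hKtop, Subgroup.index_top] at hK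
    exact hr.ne_one hK.symm

end Reduced

/-- It is enough to refute the reduced configuration. -/
theorem card_sylow_ne_two_mul_add_one {p : ℕ} [Fact p.Prime] (hp : 2 < p)
    (h : ∀ (H : Type u) [Group H] [Finite H], Reduced H p → False) :
    ∀ (G : Type u) [Group G] [Finite G], Nat.card (Sylow p G) ≠ 2 * p + 1 := by
  suffices ∀ (k : ℕ) (G : Type u) [Group G] [Finite G], Nat.card G = k →
      Nat.card (Sylow p G) ≠ 2 * p + 1 from fun G _ _ => this _ G rfl
  intro k
  induction k using Nat.strong_induction_on with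
  | _ k ih =>
    intro G _ _ hk hn
    refine h G ⟨hp, hn, fun g hg => ?_, fun M hM hidx => ?_⟩
    · by_contra hg1
      set K := (MulAction.toPermHom G (Sylow p G)).ker with hK
      have hgK : g ∈ K := Equiv.ext hg
      have hKne : K ≠ ⊥ := fun h => hg1 (Subgroup.mem_bot.mp (h ▸ hgK))
      have hKN : K ≤ Subgroup.normalizer ((default : Sylow p G) : Set G) := fun x hx =>
        Sylow.smul_eq_iff_mem_normalizer.mp
          (show MulAction.toPermHom G (Sylow p G) x default = default by rw [MonoidHom.mem_ker.mp hx]; rfl)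
      have hlt : Nat.card (G ⧸ K) < k := by
        have e := Subgroup.card_eq_card_quotient_mul_card_subgroup K
        have h1 : 1 < Nat.card K := (Subgroup.one_lt_card_iff_ne_bot K).mpr hKne
        have h2 : 0 < Nat.card (G ⧸ K) := Nat.card_pos
        nlinarith
      exact ih _ hlt (G ⧸ K) rfl ((card_sylow_quotient_of_le_normalizer K default hKN).trans hn)
    · by_contra hMne
      haveI := hM
      have hlt : Nat.card M < k := hk ▸ lt_of_le_of_ne (Subgroup.card_le_card_group M)
        (fun e => hMne ((Subgroup.card_eq_iff_eq_top M).mp e))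
      exact ih _ hlt M rfl ((card_sylow_eq_of_not_dvd_index M hidx).trans hn)

end CfsgLib.SylowNumber
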